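import Mathlib

/-!
# The stable extension of a linear character of `O(C(t))`

Let all involutions of `G` be conjugate to `t`, let `O` be the set of odd-order elements of
`C(t)` and `ψ` a function on it invariant under `C(t)`.  Assume that for every involution `w`
commuting with `t` the copy of `ψ` at `w` agrees with `ψ` on elements centralising both (in
the dihedral case: `ψ|D`, `ψ|D'` are fixed by `N(T)`, `N(T')`).  Then `ψ` extends to a class
function of `G` supported on the odd-order elements centralising an involution.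
-/

set_option autoImplicit false

namespace Cfsg.Agent.H15.GW

variable {G : Type*} [Group G] [Finite G]

/-- The setting: `ψ` on the odd part `O` of `C(t)`, compatible at commuting involutions. -/
structure StableDatum (t : G) (ψ : G → ℂ) : Prop where
  ord : orderOf t = 2
  oneClass : ∀ w : G, orderOf w = 2 → IsConj t w
  inv : ∀ c y : G, c * t = t * c → y * t = t * y → Odd (orderOf y) → ψ (c * y * c⁻¹) = ψ y
  fix : ∀ g y : G, g * t * g⁻¹ * t = t * (g * t * g⁻¹) → y * t = t * y → Odd (orderOf y) →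
    y * (g * t * g⁻¹) = g * t * g⁻¹ * y → ψ (g⁻¹ * y * g) = ψ y

/-- The extension: the common value at all involutions centralised by the element. -/
noncomputable def stableExt (t : G) (ψ : G → ℂ) (y : G) : ℂ :=
  open scoped Classical in
  if h : Odd (orderOf y) ∧ ∃ g : G, y * (g * t * g⁻¹) = g * t * g⁻¹ * y then
    ψ (h.2.choose⁻¹ * y * h.2.choose)
  else 0

variable {t : G} {ψ : G → ℂ}

omit [Finite G] in
theorem odd_orderOf_conj {y : G} (g : G) (h : Odd (orderOf y)) :
    Odd (orderOf (g⁻¹ * y * g)) := by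
  have h2 := orderOf_injective (MulAut.conj g⁻¹).toMonoidHom (MulAut.conj g⁻¹).injective y
  simp only [MulEquiv.coe_toMonoidHom, MulAut.conj_apply, inv_inv] at h2
  rwa [h2]

omit [Finite G] in
/-- `a` and `b` define the same copy of `ψ` as soon as they conjugate `t` to the same involution. -/
theorem StableDatum.eq_of_same (hd : StableDatum t ψ) {a b y : G}
    (hab : a * t * a⁻¹ = b * t * b⁻¹) (hy : Odd (orderOf y))
    (hc : y * (a * t * a⁻¹) = a * t * a⁻¹ * y) :
    ψ (a⁻¹ * y * a) = ψ (b⁻¹ * y * b) := by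
  have hcb : y * (b * t * b⁻¹) = b * t * b⁻¹ * y := hab ▸ hc
  have hk : (a⁻¹ * b) * t = t * (a⁻¹ * b) := by
    calc (a⁻¹ * b) * t = a⁻¹ * (b * t * b⁻¹) * b := by group
      _ = a⁻¹ * (a * t * a⁻¹) * b := by rw [hab]
      _ = t * (a⁻¹ * b) := by group
  have hyb : (b⁻¹ * y * b) * t = t * (b⁻¹ * y * b) := by
    calc (b⁻¹ * y * b) * t = b⁻¹ * (y * (b * t * b⁻¹)) * b := by group
      _ = b⁻¹ * (b * t * b⁻¹ * y) * b := by rw [hcb]
      _ = t * (b⁻¹ * y * b) := by group
  have h := hd.inv (a⁻¹ * b) (b⁻¹ * y * b) hk hyb (odd_orderOf_conj b hy)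
  rw [← h]
  group

omit [Finite G] in
/-- Two commuting conjugates of `t` define the same value. -/
theorem StableDatum.eq_of_commute (hd : StableDatum t ψ) {a b y : G}
    (hab : (a * t * a⁻¹) * (b * t * b⁻¹) = (b * t * b⁻¹) * (a * t * a⁻¹))
    (hy : Odd (orderOf y)) (ha : y * (a * t * a⁻¹) = a * t * a⁻¹ * y)
    (hb : y * (b * t * b⁻¹) = b * t * b⁻¹ * y) :
    ψ (a⁻¹ * y * a) = ψ (b⁻¹ * y * b) := by
  have h := hd.fix (a⁻¹ * b) (a⁻¹ * y * a) ?_ ?_ (odd_orderOf_conj a hy) ?_
  · rw [← h]; group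
  · calc (a⁻¹ * b) * t * (a⁻¹ * b)⁻¹ * t
        = a⁻¹ * ((b * t * b⁻¹) * (a * t * a⁻¹)) * a := by group
      _ = a⁻¹ * ((a * t * a⁻¹) * (b * t * b⁻¹)) * a := by rw [hab]
      _ = t * ((a⁻¹ * b) * t * (a⁻¹ * b)⁻¹) := by group
  · calc (a⁻¹ * y * a) * t = a⁻¹ * (y * (a * t * a⁻¹)) * a := by group
      _ = a⁻¹ * (a * t * a⁻¹ * y) * a := by rw [ha]
      _ = t * (a⁻¹ * y * a) := by group
  · calc (a⁻¹ * y * a) * ((a⁻¹ * b) * t * (a⁻¹ * b)⁻¹)
        = a⁻¹ * (y * (b * t * b⁻¹)) * a := by group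
      _ = a⁻¹ * (b * t * b⁻¹ * y) * a := by rw [hb]
      _ = (a⁻¹ * b) * t * (a⁻¹ * b)⁻¹ * (a⁻¹ * y * a) := by group

omit [Finite G] in
/-- The product of two involutions is inverted by the first. -/
theorem invol_conj_zpow {v w : G} (hv : v * v = 1) (hw : w * w = 1) (k : ℤ) :
    v * (v * w) ^ k * v = (v * w) ^ (-k) := by
  have hvi : v⁻¹ = v := inv_eq_of_mul_eq_one_right hv
  have hwi : w⁻¹ = w := inv_eq_of_mul_eq_one_right hw
  have h1 : v * (v * w) * v⁻¹ = (v * w)⁻¹ := by
    rw [mul_inv_rev, hvi, hwi, ← mul_assoc v v, hv, one_mul]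
  calc v * (v * w) ^ k * v = (v * (v * w) * v⁻¹) ^ k := by rw [conj_zpow, hvi]
    _ = (v * w) ^ (-k) := by rw [h1, inv_zpow, zpow_neg]

/-- All involutions centralised by an odd element define the same value. -/
theorem StableDatum.eq_value (hd : StableDatum t ψ) {a b y : G} (hy : Odd (orderOf y))
    (ha : y * (a * t * a⁻¹) = a * t * a⁻¹ * y) (hb : y * (b * t * b⁻¹) = b * t * b⁻¹ * y) :
    ψ (a⁻¹ * y * a) = ψ (b⁻¹ * y * b) := by
  have ht2 : t * t = 1 := by rw [← pow_two, ← hd.ord, pow_orderOf_eq_one]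
  have hsq : ∀ g : G, (g * t * g⁻¹) * (g * t * g⁻¹) = 1 := fun g => by
    calc (g * t * g⁻¹) * (g * t * g⁻¹) = g * (t * t) * g⁻¹ := by group
      _ = 1 := by rw [ht2]; group
  set v := a * t * a⁻¹ with hv
  set w := b * t * b⁻¹ with hw
  have hyq : Commute y (v * w) := Commute.mul_right ha hb
  by_cases hev : Even (orderOf (v * w))
  · -- the central involution of the dihedral group joins them
    obtain ⟨m, hm⟩ := hev
    have hmpos : 0 < m := by have := orderOf_pos (v * w); omega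
    set i := (v * w) ^ m with hi
    have hi2 : orderOf i = 2 := by
      rw [hi, orderOf_pow_of_dvd hmpos.ne' ⟨2, by omega⟩, hm, ← two_mul,
        Nat.mul_div_cancel _ hmpos]
    obtain ⟨c, hc⟩ := isConj_iff.1 (hd.oneClass i hi2)
    have hiy : y * (c * t * c⁻¹) = c * t * c⁻¹ * y := by rw [hc]; exact (hyq.pow_right m).eq
    have hneg : (v * w) ^ (-(m : ℤ)) = i := by
      rw [zpow_neg, zpow_natCast, ← hi, inv_eq_iff_mul_eq_one, ← pow_two, ← hi2,
        pow_orderOf_eq_one]
    have hvi : v * i = i * v := by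
      have h := invol_conj_zpow (hsq a) (hsq b) (m : ℤ)
      rw [← hv, ← hw, hneg, zpow_natCast, ← hi] at h
      calc v * i = v * i * (v * v) := by rw [hsq a, mul_one]
        _ = i * v := by rw [← mul_assoc, h]
    have hwi : w * i = i * w := by
      have hw' : w = v * (v * w) := by rw [← mul_assoc, hsq a, one_mul]
      have hq : (v * w) * i = i * (v * w) := (Commute.self_pow (v * w) m).eq
      rw [hw', mul_assoc v, hq, ← mul_assoc, hvi, mul_assoc]
    calc ψ (a⁻¹ * y * a) = ψ (c⁻¹ * y * c) :=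
          hd.eq_of_commute (by rw [hc]; exact hvi) hy ha hiy
      _ = ψ (b⁻¹ * y * b) := hd.eq_of_commute (by rw [hc]; exact hwi.symm) hy hiy hb
  · -- they are conjugate under `C(y)`
    obtain ⟨m, hm⟩ := Nat.not_even_iff_odd.1 hev
    set q := (v * w) ^ (m + 1) with hq
    have hqq : q * q = v * w := by
      rw [hq, ← pow_add, show m + 1 + (m + 1) = (2 * m + 1) + 1 by omega, pow_succ, ← hm,
        pow_orderOf_eq_one, one_mul]
    have hvq : v * q * v = q⁻¹ := by
      have h := invol_conj_zpow (hsq a) (hsq b) ((m + 1 : ℕ) : ℤ)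
      rwa [← hv, ← hw, zpow_natCast, zpow_neg, zpow_natCast, ← hq] at h
    have hconj : q⁻¹ * v * q = w := by
      calc q⁻¹ * v * q = v * q * v * v * q := by rw [hvq]
        _ = v * (q * q) := by rw [mul_assoc (v * q) v, hsq a, mul_one, mul_assoc]
        _ = w := by rw [hqq, ← mul_assoc, hsq a, one_mul]
    have hcq : y * q = q * y := (hyq.pow_right (m + 1)).eq
    have hab : (q⁻¹ * a) * t * (q⁻¹ * a)⁻¹ = b * t * b⁻¹ := by
      rw [← hw, ← hconj, hv]; group
    have h := hd.eq_of_same hab hy (by rw [hab]; exact hb)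
    rw [← h]
    congr 1
    calc a⁻¹ * y * a = a⁻¹ * (y * q) * q⁻¹ * a := by group
      _ = a⁻¹ * (q * y) * q⁻¹ * a := by rw [hcq]
      _ = (q⁻¹ * a)⁻¹ * y * (q⁻¹ * a) := by group

theorem StableDatum.ext_eq (hd : StableDatum t ψ) {y g : G} (hy : Odd (orderOf y))
    (hg : y * (g * t * g⁻¹) = g * t * g⁻¹ * y) : stableExt t ψ y = ψ (g⁻¹ * y * g) := by
  classical
  have h : Odd (orderOf y) ∧ ∃ g : G, y * (g * t * g⁻¹) = g * t * g⁻¹ * y := ⟨hy, g, hg⟩
  rw [stableExt, dif_pos h]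
  exact hd.eq_value hy h.2.choose_spec hg

/-- The extension restricts to `ψ`. -/
theorem StableDatum.ext_eq_self (hd : StableDatum t ψ) {y : G} (hy : Odd (orderOf y))
    (hc : y * t = t * y) : stableExt t ψ y = ψ y := by
  rw [hd.ext_eq (g := 1) hy (by simpa using hc)]
  simp

omit [Finite G] in
/-- It vanishes on the elements of even order. -/
theorem stableExt_of_not_odd {y : G} (hy : ¬ Odd (orderOf y)) : stableExt t ψ y = 0 := by
  classical
  rw [stableExt, dif_neg fun h => hy h.1]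

/-- The values are values of `ψ`, or zero. -/
theorem StableDatum.ext_range (hd : StableDatum t ψ) (y : G) :
    stableExt t ψ y = 0 ∨ ∃ z : G, Odd (orderOf z) ∧ z * t = t * z ∧ stableExt t ψ y = ψ z := by
  classical
  by_cases h : Odd (orderOf y) ∧ ∃ g : G, y * (g * t * g⁻¹) = g * t * g⁻¹ * y
  · obtain ⟨hy, g, hg⟩ := h
    refine Or.inr ⟨g⁻¹ * y * g, odd_orderOf_conj g hy, ?_, hd.ext_eq hy hg⟩
    calc g⁻¹ * y * g * t = g⁻¹ * (y * (g * t * g⁻¹)) * g := by group
      _ = g⁻¹ * (g * t * g⁻¹ * y) * g := by rw [hg]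
      _ = t * (g⁻¹ * y * g) := by group
  · exact Or.inl (by rw [stableExt, dif_neg h])

/-- It is a class function. -/
theorem StableDatum.ext_conj (hd : StableDatum t ψ) (y k : G) :
    stableExt t ψ (k * y * k⁻¹) = stableExt t ψ y := by
  classical
  have key : ∀ y' k' : G, (Odd (orderOf y') ∧ ∃ g : G, y' * (g * t * g⁻¹) = g * t * g⁻¹ * y') →
      stableExt t ψ (k' * y' * k'⁻¹) = stableExt t ψ y' := by
    rintro y' k' ⟨hy, g, hg⟩
    have hy' : Odd (orderOf (k' * y' * k'⁻¹)) := by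
      simpa using odd_orderOf_conj k'⁻¹ hy
    rw [hd.ext_eq hy hg, hd.ext_eq (g := k' * g) hy' ?_]
    · congr 1; group
    · calc k' * y' * k'⁻¹ * (k' * g * t * (k' * g)⁻¹) = k' * (y' * (g * t * g⁻¹)) * k'⁻¹ := by group
        _ = k' * (g * t * g⁻¹ * y') * k'⁻¹ := by rw [hg]
        _ = k' * g * t * (k' * g)⁻¹ * (k' * y' * k'⁻¹) := by group
  by_cases h : Odd (orderOf y) ∧ ∃ g : G, y * (g * t * g⁻¹) = g * t * g⁻¹ * y
  · exact key y k h
  · by_cases h' : Odd (orderOf (k * y * k⁻¹)) ∧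
        ∃ g : G, k * y * k⁻¹ * (g * t * g⁻¹) = g * t * g⁻¹ * (k * y * k⁻¹)
    · have := key _ k⁻¹ h'
      rw [show k⁻¹ * (k * y * k⁻¹) * k⁻¹⁻¹ = y by group] at this
      exact this.symm
    · rw [stableExt, dif_neg h', stableExt, dif_neg h]

end Cfsg.Agent.H15.GW
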