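import Cfsg.Agent.H15.GW.MixedFix.Basic
import Cfsg.Agent.H4.GW.Basics

/-!
# GW programme, M3, piece FIX: `c` centralises `F(O(C(t)))`

Otherwise some power `w₀` of `c` induces an involution on `F` commuting with `s`; it centralises
`τ ∩ F` and inverts an element of `E`, so `w₀ s` induces an outer involution on `L`.  It gives an
element of `O` inverted by `s` or `c * s` of order bigger than `τ` and prime to it, whose powers lie
in distinct cosets of `F N_O(E)`: too many.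
-/

set_option autoImplicit false
set_option linter.unusedSectionVars false
set_option linter.style.haveILetI false

namespace Cfsg.Agent.H15.GW

open Subgroup Cfsg.Agent
open Cfsg.Agent.GW (Cfg coreAt pairCore CentMax Fuses)
open Cfsg.Agent.Components (pCoreIn fitIn)
open Cfsg.Agent.H62.GW
open Cfsg.Agent.H80.GW.M2 (commute_fitIn exists_centralizer_decomp exists_two_pow_eq_one)

universe u

variable {G : Type u} [Group G] [Finite G] {S : Sylow 2 G} {l : ℕ} {c s : G} {L : Subgroup G}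

/-- `O_r(A) ≤ F(A)`. -/
theorem pCoreIn_le_fit (r : ℕ) [Fact r.Prime] (A : Subgroup G) : pCoreIn r A ≤ fitIn A :=
  Subgroup.map_mono (Components.pCore_le_fitting r)

theorem fitIn_le (A : Subgroup G) : fitIn A ≤ A := map_subtype_le _

/-- `C(t)` normalises `F(O(C(t)))`. -/
theorem conj_mem_fit {t g v : G} (hg : Commute g t) (hv : v ∈ fitIn (coreAt t)) :
    g * v * g⁻¹ ∈ fitIn (coreAt t) := by
  have hle : fitIn (coreAt t) ≤ (fitIn (coreAt t)).comap (MulAut.conj g).toMonoidHom := by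
    show (Cfsg.fittingSubgroup ↥(coreAt t)).map (coreAt t).subtype ≤ _
    rw [Components.fitting_eq_iSup_pCore, Subgroup.map_iSup]
    refine iSup_le fun p w hw => ?_
    haveI := Fact.mk (Nat.prime_of_mem_primeFactors p.2)
    exact pCoreIn_le_fit (p : ℕ) (coreAt t) (H80.GW.M2.pCoreIn_conj_mem hg hw)
  exact hle hv

/-- An element of odd order commuting with `t`, inverted by `r` and of order prime to `|F|` and
`|τ|`, lying in `F N_O(E)`, is trivial. -/
theorem eq_one_of_inverted_mem {r : G} (hM : MixedData S l c r L) {u : G}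
    (hu : r * u * r⁻¹ = u⁻¹) (huF : (orderOf u).Coprime (Nat.card ↥(fitIn (coreAt (c ^ l)))))
    (huT : (orderOf u).Coprime (Nat.card ↥(torusPart (c ^ l) L)))
    (hmem : u ∈ fitIn (coreAt (c ^ l)) ⊔
      (coreAt (c ^ l) ⊓ normalizer (fixPart (c ^ l) r : Set G))) : u = 1 := by
  set t := c ^ l with ht
  have hrt : Commute r t := hM.cfg.gen.z_central hM.cfg.gen.mem_s
  obtain ⟨f, hf, g, hg, rfl⟩ := (Coprime.mem_sup_iff (H := coreAt t ⊓
    normalizer (fixPart t r : Set G)) (fun x hx => by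
      refine mem_normalizer_fintype fun v hv => ?_
      exact conj_mem_fit (commute_of_mem_coreAt hx.1).symm hv)).1 hmem
  obtain ⟨k, hk, d, hd, rfl⟩ := hM.split g hg.1 hg.2
  have hfO : f ∈ coreAt t := fitIn_le _ hf
  set π := QuotientGroup.mk' (Cfsg.fittingSubgroup ↥(coreAt t)) with hπ
  have hkerπ : ∀ (x : ↥(coreAt t)), (x : G) ∈ fitIn (coreAt t) → π x = 1 := fun x hx => by
    obtain ⟨y, hy, hyx⟩ := hx
    rw [hπ, QuotientGroup.mk'_apply, QuotientGroup.eq_one_iff]
    exact (Subtype.ext hyx : y = x) ▸ hy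
  set k' : ↥(coreAt t) := ⟨k, hk.1⟩
  set d' : ↥(coreAt t) := ⟨d, hd.1⟩
  set u' : ↥(coreAt t) := ⟨f * (k * d), mul_mem hfO (mul_mem hk.1 hd.1)⟩
  have hu' : π u' = π k' * π d' := by
    rw [show u' = ⟨f, hfO⟩ * (k' * d') from rfl, map_mul, map_mul, hkerπ ⟨f, hfO⟩ hf, one_mul]
  have hfr : r * f * r⁻¹ ∈ fitIn (coreAt t) := conj_mem_fit hrt hf
  have hinv : (π u')⁻¹ = (π k')⁻¹ * π d' := by
    have e : u'⁻¹ = ⟨r * f * r⁻¹, fitIn_le _ hfr⟩ * (k'⁻¹ * d') := Subtype.ext (by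
      show (f * (k * d))⁻¹ = r * f * r⁻¹ * (k⁻¹ * d)
      rw [← hu, ← hM.torus_inverted k hk,
        show r * (f * (k * d)) * r⁻¹ = r * f * r⁻¹ * (r * k * r⁻¹ * (r * d * r⁻¹)) by group,
        show r * d * r⁻¹ = d by
          rw [← (mem_centralizer_singleton_iff.1 hd.2 : d * r = r * d), mul_inv_cancel_right]])
    rw [← map_inv, e, map_mul, map_mul, map_inv, hkerπ ⟨_, fitIn_le _ hfr⟩ hfr, one_mul]
  have hodd : Odd (Nat.card (↥(coreAt t) ⧸ Cfsg.fittingSubgroup ↥(coreAt t))) :=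
    (odd_coreAt t).of_dvd_nat (card_quotient_dvd_card _)
  have hoK : Odd (orderOf (π k')) := hodd.of_dvd_nat (orderOf_dvd_natCard _)
  have hoD : Odd (orderOf (π d')) := hodd.of_dvd_nat (orderOf_dvd_natCard _)
  rw [hu', mul_inv_rev] at hinv
  -- `K⁻¹ D = D⁻¹ K⁻¹`
  have h1 : π k' * (π d')⁻¹ = π d' * π k' := by
    calc π k' * (π d')⁻¹ = π k' * ((π d')⁻¹ * (π k')⁻¹) * π k' := by group
      _ = π k' * ((π k')⁻¹ * π d') * π k' := by rw [hinv]
      _ = π d' * π k' := by group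
  have h2 : Commute (π k' * π k') (π d') := by
    show π k' * π k' * π d' = π d' * (π k' * π k')
    have e : π d' * (π k')⁻¹ = (π k')⁻¹ * (π d')⁻¹ := by
      have := congrArg (·⁻¹) h1
      simpa using this
    have h1' : π k' * π d' = (π d')⁻¹ * π k' := by
      calc π k' * π d' = π k' * (π d' * (π k')⁻¹) * π k' := by group
        _ = π k' * ((π k')⁻¹ * (π d')⁻¹) * π k' := by rw [e]
        _ = (π d')⁻¹ * π k' := by group
    rw [mul_assoc, h1', ← mul_assoc, h1, mul_assoc]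
  have h3 : Commute (π k') (π d') := commute_of_sq hoK h2
  have hD1 : π d' = 1 := by
    refine eq_one_of_odd hoD ?_
    have h4 : π k' * (π d')⁻¹ = π k' * π d' := h1.trans h3.eq.symm
    exact mul_eq_one_iff_inv_eq.2 (mul_left_cancel h4)
  have hu1 : π u' = 1 := by
    rw [hu', hD1, mul_one, ← orderOf_eq_one_iff]
    refine Nat.eq_one_of_dvd_coprimes huT ?_ ?_
    · have h5 := orderOf_map_dvd π u'
      rw [hu', hD1, mul_one, Subgroup.orderOf_mk] at h5
      exact h5
    · exact ((orderOf_map_dvd π k').trans (by rw [Subgroup.orderOf_mk])).trans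
        (orderOf_dvd_natCard _ hk)
  rw [hπ, QuotientGroup.mk'_apply, QuotientGroup.eq_one_iff] at hu1
  exact orderOf_eq_one_iff.1 (Nat.eq_one_of_dvd_coprimes huF dvd_rfl
    (orderOf_dvd_natCard _ ⟨u', hu1, rfl⟩))

/-- An element of `O` inverted by a mixed reflection `r` cannot have order bigger than, and prime
to, `|τ|`. -/
theorem false_of_big_inverted {r : G} (hM : MixedData S l c r L) {q : ℕ}
    (hm : mNum (c ^ l) r ≤ q)
    {w : G} (hw : w ∈ coreAt (c ^ l)) (hinv : r * w * r⁻¹ = w⁻¹)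
    (hqw : q < orderOf w)
    (hcop : (orderOf w).Coprime (Nat.card ↥(torusPart (c ^ l) L))) : False := by
  have hdvd : ∀ p : ℕ, p.Prime → p ∣ Nat.card ↥(fitIn (coreAt (c ^ l))) →
      p ∣ Nat.card ↥(torusPart (c ^ l) L) := fun p hp hpF => by
    obtain ⟨z, hz, hzL, hzo⟩ := hM.torus_prime p hp hpF
    exact hzo ▸ orderOf_dvd_natCard _ (⟨pCoreAt_le _ _ hz, hzL⟩ : z ∈ torusPart (c ^ l) L)
  have hcF : (orderOf w).Coprime (Nat.card ↥(fitIn (coreAt (c ^ l)))) :=
    Nat.coprime_of_dvd fun p hp h1 h2 =>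
      hp.ne_one (Nat.eq_one_of_dvd_coprimes hcop h1 (hdvd p hp h2))
  set H0 := fitIn (coreAt (c ^ l)) ⊔
    (coreAt (c ^ l) ⊓ normalizer (fixPart (c ^ l) r : Set G)) with hH0
  have hbot : H0 ⊓ zpowers w = ⊥ := by
    refine eq_bot_iff.2 fun u hu => ?_
    obtain ⟨i, rfl⟩ := mem_zpowers_iff.1 hu.2
    have hd : orderOf (w ^ i) ∣ orderOf w :=
      orderOf_dvd_iff_pow_eq_one.2 (by rw [← zpow_natCast, ← zpow_mul, mul_comm, zpow_mul,
        zpow_natCast, pow_orderOf_eq_one, one_zpow])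
    refine eq_one_of_inverted_mem hM ?_ (hcF.coprime_dvd_left hd) (hcop.coprime_dvd_left hd) hu.1
    rw [← MulAut.conj_apply, map_zpow, MulAut.conj_apply, hinv, inv_zpow]
  have h1 : H0.relIndex (zpowers w) = orderOf w := by
    rw [← inf_relIndex_right, hbot, relIndex_bot_left, Nat.card_zpowers]
  have h2 : H0.relIndex (zpowers w) ≤ mNum (c ^ l) r :=
    relIndex_le_of_le_right (zpowers_le.2 hw) Subgroup.index_ne_zero_of_finite
  omega

/-- An element of `O` of order prime to `|F|` inverted by an involution which centralises or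
inverts each `O_p(O)` is trivial. -/
theorem eq_one_of_pure {t r w : G} (hrr : r * r = 1) (hrt : Commute r t)
    (hpure : ∀ p : ℕ, p.Prime → (∀ v ∈ pCoreIn p (coreAt t), Commute v r) ∨
      pCoreIn p (coreAt t) ⊓ centralizer ({r} : Set G) = ⊥)
    (hw : w ∈ coreAt t) (hinv : r * w * r⁻¹ = w⁻¹)
    (hcF : (orderOf w).Coprime (Nat.card ↥(fitIn (coreAt t)))) : w = 1 := by
  have hwt : Commute w t := (commute_of_mem_coreAt hw).symm
  have hwo : Odd (orderOf w) := odd_orderOf_of_mem (odd_coreAt t) hw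
  have hc : ∀ p : ℕ, p.Prime → ∀ v ∈ pCoreIn p (coreAt t), Commute w v := by
    intro p hp v hv
    refine commute_of_sq hwo ?_
    set P := pCoreIn p (coreAt t)
    have hconj : ∀ {g : G}, Commute g t → ∀ z ∈ P, g * z * g⁻¹ ∈ P := fun hg z hz =>
      H80.GW.M2.pCoreIn_conj_mem hg hz
    have key : ∀ (ε : ℤ), (∀ z ∈ P, r * z * r⁻¹ = z ^ ε) → w⁻¹ * v ^ ε * w = (w * v * w⁻¹) ^ ε := by
      intro ε hε
      rw [← hε _ (hconj hwt v hv), ← hε v hv,
        show r * (w * v * w⁻¹) * r⁻¹ = r * w * r⁻¹ * (r * v * r⁻¹) * (r * w * r⁻¹)⁻¹ by group, hinv,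
        inv_inv]
    have fin : w⁻¹ * v * w = w * v * w⁻¹ → Commute (w * w) v := fun h1 => by
      show w * w * v = v * (w * w)
      calc w * w * v = w * (w * v * w⁻¹) * w := by group
        _ = w * (w⁻¹ * v * w) * w := by rw [h1]
        _ = v * (w * w) := by group
    rcases hpure p hp with hall | hbot
    · have h := key 1 fun z hz => by
        rw [zpow_one, ← (hall z hz).eq, mul_inv_cancel_right]
      rw [zpow_one, zpow_one] at h
      exact fin h
    · let φ : ↥P →* ↥P := ((MulAut.conj r).toMonoidHom.comp P.subtype).codRestrict _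
        fun x => hconj hrt x x.2
      have hφ : ∀ x : ↥P, (φ x : G) = r * x * r⁻¹ := fun _ => rfl
      have hfpf : MonoidHom.FixedPointFree φ := fun x hx => Subtype.ext <| by
        have h : (x : G) ∈ P ⊓ centralizer ({r} : Set G) := ⟨x.2, mem_centralizer_singleton_iff.2
          (mul_inv_eq_iff_eq_mul.1 ((hφ x).symm.trans (congrArg Subtype.val hx))).symm⟩
        rwa [hbot, mem_bot] at h
      have hinvol : Function.Involutive φ := fun x => Subtype.ext <| by
        rw [hφ, hφ, show r * (r * (x : G) * r⁻¹) * r⁻¹ = (r * r) * x * (r * r)⁻¹ by group, hrr]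
        group
      have h := key (-1) fun z hz => by
        rw [zpow_neg, zpow_one]
        exact congrArg Subtype.val (congrFun (hfpf.coe_eq_inv_of_involutive hinvol) ⟨z, hz⟩)
      refine fin (inv_injective ?_)
      rw [zpow_neg, zpow_one, zpow_neg, zpow_one] at h
      rw [← h]
      group
  have hwF : w ∈ fitIn (coreAt t) := mem_fitIn_of_commute hw hc
  exact orderOf_eq_one_iff.1 (Nat.eq_one_of_dvd_coprimes hcF dvd_rfl (orderOf_dvd_natCard _ hwF))

/-- An involution of `C(t)` other than `t` is conjugate in `C(t)` to `s` or to `c * s`. -/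
theorem exists_conj_reflection (h : Cfg S l c s) {b : G} (hbo : orderOf b = 2)
    (hbt : Commute b (c ^ l)) (hne : b ≠ c ^ l) :
    ∃ g, Commute g (c ^ l) ∧ (g * b * g⁻¹ = s ∨ g * b * g⁻¹ = c * s) := by
  haveI : Fact (Nat.Prime 2) := ⟨Nat.prime_two⟩
  set C := centralizer ({c ^ l} : Set G) with hC
  have hSC : (S : Subgroup G) ≤ C := H36.GW.sylow_le_centralizer h.gen
  set b' : ↥C := ⟨b, mem_centralizer_singleton_iff.2 hbt.eq⟩
  obtain ⟨P, hP⟩ := (IsPGroup.of_card (n := 1) (by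
    rw [Nat.card_zpowers, ← Subgroup.orderOf_coe, hbo, pow_one]) :
      IsPGroup 2 (zpowers b')).exists_le_sylow
  obtain ⟨g₀, hg₀⟩ := MulAction.exists_smul_eq C P (S.subtype hSC)
  have hmem : g₀ * b' * g₀⁻¹ ∈ (S.subtype hSC : Subgroup ↥C) := by
    rw [← hg₀, Sylow.coe_subgroup_smul]
    exact ⟨b', hP (mem_zpowers b'), rfl⟩
  rw [Sylow.coe_subtype, mem_subgroupOf] at hmem
  set σ : G := (g₀ : G) * b * (g₀ : G)⁻¹ with hσ
  have hmem' : σ ∈ (S : Subgroup G) := hmem
  have hg₀t : Commute (g₀ : G) (c ^ l) := mem_centralizer_singleton_iff.1 g₀.2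
  have hσc : σ ∉ zpowers c := fun hz => by
    rcases h.gen.sq_one_cases hz (by
      rw [hσ, show (g₀ : G) * b * (g₀ : G)⁻¹ * ((g₀ : G) * b * (g₀ : G)⁻¹) =
        (g₀ : G) * (b * b) * (g₀ : G)⁻¹ by group, H39.mul_self_of_orderOf_eq_two hbo]
      group) with e | e
    · rw [hσ, conj_eq_one_iff] at e
      exact H39.ne_one_of_orderOf_eq_two hbo e
    · refine hne ?_
      calc b = (g₀ : G)⁻¹ * σ * (g₀ : G) := by rw [hσ]; group
        _ = c ^ l := by rw [e, mul_assoc, hg₀t.symm.eq, inv_mul_cancel_left]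
  obtain ⟨i, hi⟩ := h.gen.out_form hmem' hσc
  have hsc : ∀ j : ℤ, s * c ^ j = c ^ (-j) * s := fun j => by
    have e := h.gen.out_conj 0 j
    rw [zpow_zero, one_mul] at e
    exact mul_inv_eq_iff_eq_mul.1 e
  have hct : ∀ j : ℤ, Commute (c ^ j * (g₀ : G)) (c ^ l) := fun j =>
    Commute.mul_left (((Commute.refl c).zpow_left j).pow_right l) hg₀t
  rcases Int.even_or_odd' i with ⟨j, rfl | rfl⟩
  · refine ⟨c ^ (-j) * (g₀ : G), hct _, Or.inl ?_⟩
    rw [show c ^ (-j) * (g₀ : G) * b * (c ^ (-j) * (g₀ : G))⁻¹ = c ^ (-j) * σ * c ^ j by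
      rw [hσ]; group, hi, mul_assoc, mul_assoc, hsc, ← mul_assoc, ← mul_assoc, ← zpow_add,
      ← zpow_add, show -j + 2 * j + -j = 0 by ring, zpow_zero, one_mul]
  · refine ⟨c ^ (-j) * (g₀ : G), hct _, Or.inr ?_⟩
    rw [show c ^ (-j) * (g₀ : G) * b * (c ^ (-j) * (g₀ : G))⁻¹ = c ^ (-j) * σ * c ^ j by
      rw [hσ]; group, hi, mul_assoc, mul_assoc, hsc, ← mul_assoc, ← mul_assoc, ← zpow_add,
      ← zpow_add, show -j + (2 * j + 1) + -j = 1 by ring, zpow_one]

/-- A reflection normalising `L` and inducing an outer involution on it yields an element of `L`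
inverted by `t`, centralised by the reflection, of order bigger than, and prime to, `|τ|`. -/
theorem exists_big_torus (hM : MixedData S l c s L) {b y : G}
    (hbN : b ∈ normalizer (L : Set G)) (hbo : orderOf b = 2) (hbt : Commute b (c ^ l))
    (hy : y ∈ fixPart (c ^ l) s) (hy1 : y ≠ 1) (hby : b * y * b⁻¹ = y⁻¹) :
    ∃ x : G, Commute b x ∧ c ^ l * x * (c ^ l)⁻¹ = x⁻¹ ∧ Odd (orderOf x) ∧
      Nat.card ↥(torusPart (c ^ l) L) < orderOf x ∧
      (orderOf x).Coprime (Nat.card ↥(torusPart (c ^ l) L)) := by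
  obtain ⟨Y, _, _, π, K, _, F, _, _, e, hodd, h3, hSD, hC, hker, hK, hsurj⟩ := exists_over hM
  have hoddC := odd_card_centralizer hM
  have hinj : ∀ {n : ↥(normalizer (L : Set G))}, (n : G) ∈ L → π n = 1 → n = 1 :=
    fun {n} hn h => Subtype.ext (eq_one_of_mem_centralizer hM hn ((hker n).1 h))
  set t' : ↥(normalizer (L : Set G)) := ⟨c ^ l, le_normalizer hM.t_mem⟩
  set b' : ↥(normalizer (L : Set G)) := ⟨b, hbN⟩
  have htK : π t' ∈ K := (hK _).2 ⟨c ^ l, hM.t_mem, by simp [t']⟩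
  have hto : orderOf (π t') = 2 := H39.orderOf_eq_two_of_mul_self
    (by rw [← map_mul, (hker _)]
        show c ^ l * c ^ l ∈ _
        rw [H39.mul_self_of_orderOf_eq_two hM.cfg.gen.z_order]; exact one_mem _)
    (fun h => H39.ne_one_of_orderOf_eq_two hM.cfg.gen.z_order
      (congrArg Subtype.val (hinj hM.t_mem h)))
  have hbo' : orderOf (π b') = 2 := H39.orderOf_eq_two_of_mul_self
    (by rw [← map_mul, (hker _)]
        show b * b ∈ _
        rw [H39.mul_self_of_orderOf_eq_two hbo]; exact one_mem _)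
    (fun h => H39.ne_one_of_orderOf_eq_two hbo
      (eq_one_of_odd (odd_orderOf_of_mem hoddC ((hker _).1 h))
        (H39.mul_self_of_orderOf_eq_two hbo)))
  have hbK : π b' ∉ K := fun hh => by
    obtain ⟨k, hkL, hkb⟩ := (hK b').1 hh
    have hky : Commute k y := hM.commute_fix k hkL y hy
    set u := k⁻¹ * b with hu
    have hey : u * y * u⁻¹ = y⁻¹ := by
      rw [hu, show k⁻¹ * b * y * (k⁻¹ * b)⁻¹ = k⁻¹ * (b * y * b⁻¹) * k by group, hby, mul_assoc,
        ← hky.inv_right.eq, inv_mul_cancel_left]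
    have hu2 : Commute (u * u) y := by
      show u * u * y = y * (u * u)
      calc u * u * y = u * (u * y * u⁻¹) * u := by group
        _ = u * y⁻¹ * u := by rw [hey]
        _ = (u * y * u⁻¹)⁻¹ * (u * u) := by group
        _ = y * (u * u) := by rw [hey, inv_inv]
    have huy : Commute u y := commute_of_sq (odd_orderOf_of_mem hoddC hkb) hu2
    exact hy1 (eq_one_of_inverted
      (odd_orderOf_of_mem (odd_coreAt _) (fitIn_le _ hy.1)) hey huy)
  have hcomm : Commute (π t') (π b') := Commute.map (Subtype.ext hbt.eq.symm) π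
  obtain ⟨x, hxK, hxo, hbx, htx, hsmall⟩ :=
    H91.GW.exists_torus_of_outer e hSD hodd h3 hC htK hto hbK hbo' hcomm
  obtain ⟨n, hnL, rfl⟩ := hsurj x hxK
  have hord : ∀ m : ↥(normalizer (L : Set G)), (m : G) ∈ L → orderOf (π m) = orderOf (m : G) := by
    intro m hm
    refine Nat.dvd_antisymm ((orderOf_map_dvd π m).trans (by rw [Subgroup.orderOf_coe]))
      (orderOf_dvd_iff_pow_eq_one.2 ?_)
    have h := hinj (n := m ^ orderOf (π m))
      (by rw [SubmonoidClass.coe_pow]; exact pow_mem hm _) (by rw [map_pow, pow_orderOf_eq_one])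
    exact congrArg Subtype.val h
  have hT : ∀ k ∈ torusPart (c ^ l) L,
      orderOf k < orderOf (n : G) ∧ (orderOf k).Coprime (orderOf (n : G)) := fun k hk => by
    have h := hsmall (π ⟨k, le_normalizer hk.2⟩) ((hK _).2 ⟨k, hk.2, by simp⟩)
      (Commute.map (Subtype.ext (commute_of_mem_coreAt hk.1).eq.symm) π)
      (by rw [hord _ hk.2]; exact odd_orderOf_of_mem (odd_coreAt _) hk.1)
    rwa [hord _ hk.2, hord _ hnL] at h
  obtain ⟨γ, hγ⟩ := (isCyclic_iff_exists_zpowers_eq_top.1 hM.torus_cyclic)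
  have hγo : orderOf (γ : G) = Nat.card ↥(torusPart (c ^ l) L) := by
    rw [Subgroup.orderOf_coe, ← Nat.card_zpowers, hγ, Subgroup.card_top]
  obtain ⟨hlt, hcp⟩ := hT γ γ.2
  rw [hγo] at hlt hcp
  refine ⟨n, ?_, ?_, by rw [← hord _ hnL]; exact hxo, hlt, hcp.symm⟩
  · have h : π (b' * n * b'⁻¹ * n⁻¹) = 1 := by
      rw [map_mul, map_mul, map_mul, map_inv, map_inv, hbx.eq, mul_inv_cancel_right,
        mul_inv_cancel]
    have h' := congrArg Subtype.val (hinj (n := b' * n * b'⁻¹ * n⁻¹)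
      (mul_mem (Coprime.conj_mem hbN hnL) (inv_mem hnL)) h)
    exact mul_inv_eq_iff_eq_mul.1 (mul_inv_eq_one.1 h')
  · have h : π (t' * n * t'⁻¹ * n) = 1 := by
      rw [map_mul, map_mul, map_mul, map_inv, htx, inv_mul_cancel]
    have h' := congrArg Subtype.val (hinj (n := t' * n * t'⁻¹ * n)
      (mul_mem (Coprime.conj_mem (le_normalizer hM.t_mem) hnL) hnL) h)
    exact mul_eq_one_iff_eq_inv.1 h'

/-- A power of `c` inducing an involution on `F` is impossible. -/
theorem commute_of_sq_fixed (hM : MixedData S l c s L)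
    (hside : (∃ y, MixPt S l c (c * s) y) → ∃ L', MixedData S l c (c * s) L')
    (hbound : ∀ s' L', MixedData S l c s' L' →
      ∃ q, q.Prime ∧ q ∣ Nat.card ↥(fitIn (coreAt (c ^ l))) ∧ mNum (c ^ l) s' ≤ q) {k : ℕ}
    (h2 : ∀ v ∈ fitIn (coreAt (c ^ l)), Commute (c ^ k * c ^ k) v) :
    ∀ v ∈ fitIn (coreAt (c ^ l)), Commute (c ^ k) v := by
  by_contra hne
  set w := c ^ k with hw
  have hD := hM.cfg.gen
  have hwt : Commute w (c ^ l) := (Commute.refl c).pow_pow k l
  have hsw : s * w * s⁻¹ = w⁻¹ := by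
    have e := hD.out_conj 0 (k : ℤ)
    rwa [zpow_zero, one_mul, zpow_natCast, zpow_neg, zpow_natCast] at e
  have hF : ∀ v ∈ fitIn (coreAt (c ^ l)), w⁻¹ * v * w = w * v * w⁻¹ := fun v hv => by
    have e := (h2 v hv).eq
    calc w⁻¹ * v * w = w⁻¹ * (v * (w * w)) * w⁻¹ := by group
      _ = w⁻¹ * (w * w * v) * w⁻¹ := by rw [e]
      _ = w * v * w⁻¹ := by group
  have hwE : ∀ v ∈ fixPart (c ^ l) s, w * v * w⁻¹ ∈ fixPart (c ^ l) s := fun v hv => by
    refine ⟨conj_mem_fit hwt hv.1, mem_centralizer_singleton_iff.2 ?_⟩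
    have h1 : s * (w * v * w⁻¹) * s⁻¹ = w * v * w⁻¹ := by
      rw [show s * (w * v * w⁻¹) * s⁻¹ = s * w * s⁻¹ * (s * v * s⁻¹) * (s * w * s⁻¹)⁻¹ by group,
        hsw, inv_inv, show s * v * s⁻¹ = v by
          rw [← (mem_centralizer_singleton_iff.1 hv.2 : v * s = s * v), mul_inv_cancel_right],
        hF v hv.1]
    exact (mul_inv_eq_iff_eq_mul.1 h1).symm
  have hwN : w ∈ normalizer (fixPart (c ^ l) s : Set G) := mem_normalizer_fintype hwE
  have hwC : w ∈ centralizer ({c ^ l} : Set G) := mem_centralizer_singleton_iff.2 hwt.eq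
  have hwL := hM.layer_norm w hwC hwN
  set b := w * s with hb
  have hbo : orderOf b = 2 := by
    have := hD.orderOf_out (k : ℤ)
    rwa [zpow_natCast] at this
  have hbc : b ≠ c ^ l := fun e => hD.out_not_mem (k : ℤ) (by
    rw [zpow_natCast]
    show b ∈ zpowers c
    rw [e]
    exact pow_mem (mem_zpowers c) l)
  have hbt : Commute b (c ^ l) := hwt.mul_left (hD.z_central hD.mem_s)
  have hbN : b ∈ normalizer (L : Set G) := mul_mem hwL (le_normalizer hM.s_mem)
  -- `w` centralises `τ ∩ F`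
  have hT : ∀ z ∈ torusPart (c ^ l) L, z ∈ fitIn (coreAt (c ^ l)) → Commute w z := by
    intro z hz hzF
    set d := w * z * w⁻¹ * z⁻¹ with hd
    have hdT : d ∈ torusPart (c ^ l) L :=
      ⟨(coreAt (c ^ l)).mul_mem (conj_mem_coreAt hwt hz.1) ((coreAt (c ^ l)).inv_mem hz.1),
        L.mul_mem (Coprime.conj_mem hwL hz.2) (L.inv_mem hz.2)⟩
    have hwd : w * d * w⁻¹ = d⁻¹ := by
      rw [hd, show w * (w * z * w⁻¹ * z⁻¹) * w⁻¹ = (w * w) * z * (w * w)⁻¹ * (w * z⁻¹ * w⁻¹)
        by group, (h2 z hzF).eq, mul_inv_cancel_right]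
      group
    have hbd : Commute b d := by
      refine mul_inv_eq_iff_eq_mul.1 ?_
      rw [hb, show w * s * d * (w * s)⁻¹ = w * (s * d * s⁻¹) * w⁻¹ by group,
        hM.torus_inverted d hdT, show w * d⁻¹ * w⁻¹ = (w * d * w⁻¹)⁻¹ by group, hwd, inv_inv]
    by_contra hz1
    refine false_of_fixes_torus hM hbN (H39.mul_self_of_orderOf_eq_two hbo)
      (H39.ne_one_of_orderOf_eq_two hbo) hbt hbc hdT (fun h1 => hz1 ?_) hbd
    exact mul_inv_eq_iff_eq_mul.1 (mul_inv_eq_one.1 h1)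
  -- so it moves `E`
  obtain ⟨y, hy, hy1, hwy⟩ : ∃ y ∈ fixPart (c ^ l) s, y ≠ 1 ∧ w * y * w⁻¹ = y⁻¹ := by
    by_contra! hall
    refine hne (commute_fitIn fun r hr v hv => ?_)
    by_cases hr2 : r = 2
    · subst hr2
      rw [pCoreIn_two_eq_bot, mem_bot] at hv
      subst hv
      exact Commute.one_right w
    obtain ⟨m, hm⟩ := exists_two_pow_eq_one (S := S) (pow_mem hD.mem_c k : w ∈ (S : Subgroup G))
    refine hM.coprime_fixed w hwC r hr ?_ (fun e he => ?_) hT v hv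
    · exact Nat.Coprime.coprime_dvd_left (orderOf_dvd_of_pow_eq_one hm)
        (Nat.Coprime.pow_left m ((Nat.coprime_primes Nat.prime_two hr).2 (Ne.symm hr2)))
    · set d := w * e * w⁻¹ * e⁻¹ with hd
      have hdE : d ∈ fixPart (c ^ l) s := mul_mem (hwE e he) (inv_mem he)
      by_contra hc
      refine hall d hdE (fun h1 => hc (mul_inv_eq_iff_eq_mul.1 (mul_inv_eq_one.1 h1))) ?_
      rw [hd, show w * (w * e * w⁻¹ * e⁻¹) * w⁻¹ = (w * w) * e * (w * w)⁻¹ * (w * e⁻¹ * w⁻¹)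
        by group, (h2 e he.1).eq, mul_inv_cancel_right]
      group
  have hby : b * y * b⁻¹ = y⁻¹ := by
    rw [hb, show w * s * y * (w * s)⁻¹ = w * (s * y * s⁻¹) * w⁻¹ by group,
      show s * y * s⁻¹ = y by
        rw [← (mem_centralizer_singleton_iff.1 hy.2 : y * s = s * y), mul_inv_cancel_right], hwy]
  obtain ⟨x, hbx, htx, hxo, hxbig, hxcop⟩ := exists_big_torus hM hbN hbo hbt hy hy1 hby
  -- move `b` to `t`
  obtain ⟨g₁, hg₁⟩ := isConj_iff.1 (H4.GW.isConj_center hM.cfg hbo).symm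
  set t₁ := g₁ * c ^ l * g₁⁻¹ with ht₁
  have ht₁t : Commute t₁ (c ^ l) := by
    have h := (Commute.conj_iff g₁).2 hbt.symm
    rwa [hg₁] at h
  have ht₁o : orderOf t₁ = 2 := by rw [ht₁, ← MulAut.conj_apply, MulEquiv.orderOf_eq]; exact hD.z_order
  have ht₁ne : t₁ ≠ c ^ l := fun e => hbc (by
    rw [ht₁] at e
    exact (MulAut.conj g₁).injective (by rw [MulAut.conj_apply, MulAut.conj_apply, hg₁, e]))
  obtain ⟨g₂, hg₂, hcases⟩ := exists_conj_reflection hM.cfg ht₁o ht₁t ht₁ne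
  set g := g₂ * g₁ with hg
  set v := g * x * g⁻¹ with hv
  have hgb : g * b * g⁻¹ = c ^ l := by
    rw [hg, show g₂ * g₁ * b * (g₂ * g₁)⁻¹ = g₂ * (g₁ * b * g₁⁻¹) * g₂⁻¹ by group, hg₁, hg₂.eq,
      mul_inv_cancel_right]
  have hvo : orderOf v = orderOf x := by rw [hv, ← MulAut.conj_apply, MulEquiv.orderOf_eq]
  have hvt : Commute v (c ^ l) := by
    rw [← hgb, hv]
    exact (Commute.conj_iff g).2 hbx.symm
  have hvO : v ∈ coreAt (c ^ l) := mem_coreAt_of_odd hM.cfg hvt (hvo ▸ hxo)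
  set r := g * c ^ l * g⁻¹ with hr
  have hrinv : r * v * r⁻¹ = v⁻¹ := by
    rw [hr, hv, show g * c ^ l * g⁻¹ * (g * x * g⁻¹) * (g * c ^ l * g⁻¹)⁻¹ =
      g * (c ^ l * x * (c ^ l)⁻¹) * g⁻¹ by group, htx]
    group
  have hr2 : r = s ∨ r = c * s := by
    have e : r = g₂ * t₁ * g₂⁻¹ := by rw [hr, hg, ht₁]; group
    rw [e]; exact hcases
  have hdvd : ∀ p : ℕ, p.Prime → p ∣ Nat.card ↥(fitIn (coreAt (c ^ l))) →
      p ∣ Nat.card ↥(torusPart (c ^ l) L) := fun p hp hpF => by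
    obtain ⟨z, hz, hzL, hzo⟩ := hM.torus_prime p hp hpF
    exact hzo ▸ orderOf_dvd_natCard _ (⟨pCoreAt_le _ _ hz, hzL⟩ : z ∈ torusPart (c ^ l) L)
  have hcF : (orderOf v).Coprime (Nat.card ↥(fitIn (coreAt (c ^ l)))) :=
    Nat.coprime_of_dvd fun p hp h1 h2' =>
      hp.ne_one (Nat.eq_one_of_dvd_coprimes hxcop (hvo ▸ h1) (hdvd p hp h2'))
  have hv1 : v ≠ 1 := fun e => by
    rw [e, orderOf_one] at hvo
    have := Nat.card_pos (α := ↥(torusPart (c ^ l) L))
    omega
  have hrr : r * r = 1 := by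
    rcases hr2 with e | e <;> rw [e]
    · exact H39.mul_self_of_orderOf_eq_two hD.os
    · simpa using hD.out_mul_self 1
  have hrt : Commute r (c ^ l) := by
    rcases hr2 with e | e <;> rw [e]
    · exact hD.z_central hD.mem_s
    · exact hD.z_central (mul_mem hD.mem_c hD.mem_s)
  obtain ⟨L', hM'⟩ : ∃ L', MixedData S l c r L' := by
    rcases hr2 with e | e
    · exact ⟨L, e.symm ▸ hM⟩
    · by_cases hpt : ∃ y, MixPt S l c (c * s) y
      · rw [e]; exact hside hpt
      refine (hv1 (eq_one_of_pure hrr hrt (fun p hp => ?_) hvO hrinv hcF)).elim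
      refine or_iff_not_imp_right.2 fun hne' u hu => ?_
      obtain ⟨⟨y₀, hy₀⟩, hy₀'⟩ := Subgroup.ne_bot_iff_exists_ne_one.1 hne'
      have hy₀1 : y₀ ≠ 1 := fun h => hy₀' (Subtype.ext h)
      haveI := Fact.mk hp
      obtain ⟨m, hm⟩ := (Components.isPGroup_pCoreIn (p := p) (coreAt (c ^ l))) ⟨y₀, hy₀.1⟩
      obtain ⟨j, -, hj⟩ := (Nat.dvd_prime_pow hp).1
        (orderOf_dvd_of_pow_eq_one (congrArg Subtype.val hm : y₀ ^ p ^ m = 1))
      rcases j with _ | j
      · rw [pow_zero, orderOf_eq_one_iff] at hj; exact absurd hj hy₀1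
      have hyo : orderOf (y₀ ^ p ^ j) = p := by
        rw [orderOf_pow' y₀ (pow_ne_zero _ hp.ne_zero), hj,
          Nat.gcd_eq_right (pow_dvd_pow p j.le_succ), pow_succ,
          Nat.mul_div_cancel_left _ (pow_pos hp.pos _)]
      by_contra hnc
      refine hpt ⟨y₀ ^ p ^ j, H4.GW.cfg_swap hM.cfg, hM.cmax, ⟨pow_mem (pCoreIn_le_fit p _ hy₀.1) _, ?_⟩,
        p, hp, hyo, pow_mem hy₀.1 _, u, hu, ?_⟩
      · exact pow_mem (e ▸ hy₀.2) _
      · exact e ▸ hnc
  obtain ⟨q, hq, hqF, hm⟩ := hbound r L' hM'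
  have hq' : ∀ p : ℕ, p.Prime → p ∣ Nat.card ↥(torusPart (c ^ l) L') →
      p ∣ Nat.card ↥(torusPart (c ^ l) L) := fun p hp h => hdvd p hp (hM'.fit_prime p hp h)
  have hcop' : (orderOf v).Coprime (Nat.card ↥(torusPart (c ^ l) L')) :=
    Nat.coprime_of_dvd fun p hp h1 h2' =>
      hp.ne_one (Nat.eq_one_of_dvd_coprimes hxcop (hvo ▸ h1) (hq' p hp h2'))
  have hqv : q < orderOf v := by
    have := Nat.le_of_dvd Nat.card_pos (hdvd q hq hqF)
    omega
  exact false_of_big_inverted hM' hm hvO hrinv hqv hcop'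

/-- **FIX.** `c` centralises `F(O(C(t)))`. -/
theorem commute_fit (hM : MixedData S l c s L)
    (hside : (∃ y, MixPt S l c (c * s) y) → ∃ L', MixedData S l c (c * s) L')
    (hbound : ∀ s' L', MixedData S l c s' L' →
      ∃ q, q.Prime ∧ q ∣ Nat.card ↥(fitIn (coreAt (c ^ l))) ∧ mNum (c ^ l) s' ≤ q) :
    ∀ v ∈ fitIn (coreAt (c ^ l)), Commute c v := by
  obtain ⟨n, hn⟩ := exists_two_pow_eq_one (S := S) hM.cfg.gen.mem_c
  have key : ∀ i ≤ n, ∀ v ∈ fitIn (coreAt (c ^ l)), Commute (c ^ 2 ^ (n - i)) v := by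
    intro i
    induction i with
    | zero => intro _ v _; rw [Nat.sub_zero, hn]; exact Commute.one_left v
    | succ i ih =>
      intro hi
      refine commute_of_sq_fixed hM hside hbound fun v hv => ?_
      rw [← pow_add, ← two_mul, ← pow_succ', show n - (i + 1) + 1 = n - i by omega]
      exact ih (Nat.le_of_succ_le hi) v hv
  intro v hv
  have := key n le_rfl v hv
  rwa [Nat.sub_self, pow_zero, pow_one] at this

/-- `c` centralises `O(C(t))`. -/
theorem commute_core (hM : MixedData S l c s L)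
    (hside : (∃ y, MixPt S l c (c * s) y) → ∃ L', MixedData S l c (c * s) L')
    (hbound : ∀ s' L', MixedData S l c s' L' →
      ∃ q, q.Prime ∧ q ∣ Nat.card ↥(fitIn (coreAt (c ^ l))) ∧ mNum (c ^ l) s' ≤ q) :
    ∀ v ∈ coreAt (c ^ l), Commute c v := by
  obtain ⟨n, hn⟩ := exists_two_pow_eq_one (S := S) hM.cfg.gen.mem_c
  refine H80.GW.M2.commute_coreAt_of_trivial ((Commute.refl c).pow_right l) hn fun r hr w hw => ?_
  haveI := Fact.mk hr
  exact commute_fit hM hside hbound w (pCoreIn_le_fit r _ hw)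

end Cfsg.Agent.H15.GW
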