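import Mathlib

/-!
# The arithmetic kernel of step 7 of the dihedral theorem

Setting-free number theory used by the analysis of a group with dihedral Sylow `2`-subgroup of
order `N = 2 ^ n` in which `O(C(t))` is not abelian (`notes/helper15_gw_step7.md`,
`notes/gw_v2_L.md`): the block of a fixed linear character (`linearBlock_degrees`), the block of a
moved linear character for `n = 3` (`movedBlock_degrees`), the congruence step (`sigma_eq`), the
second torus (`secondTorus_absurd`) and the count that removes layers (`layer_absurd`).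
-/

set_option autoImplicit false

namespace Cfsg.Agent.H15.GW

/-- Two signed degrees of the same sign cannot satisfy the block equation. -/
theorem sameSign_lhs_lt {a b : ℚ} (ha : 0 < a) (hb : 0 < b) :
    (a - b) ^ 2 / ((a + b) * a * b) < 1 / min a b := by
  have hd : 0 < (a + b) * a * b := by positivity
  rw [div_lt_div_iff₀ hd (lt_min ha hb)]
  rcases le_total a b with h | h
  · rw [min_eq_left h]; nlinarith [mul_pos ha hb, mul_pos (mul_pos ha ha) hb]
  · rw [min_eq_right h]; nlinarith [mul_pos ha hb, mul_pos (mul_pos hb hb) ha]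

/-- The block equation of a fixed linear character: only degree `6` for `|S| = 8` survives. -/
theorem linearBlock_degrees {n : ℕ} (hn : 3 ≤ n) {X₀ X₁ : ℤ} {r : ℚ}
    (h₀ : (2 : ℤ) ^ n ∣ X₀ - 1) (h₁ : (2 : ℤ) ^ n ∣ X₁ - 1) (hX₀ : X₀ ≠ 1) (hX₁ : X₁ ≠ 1)
    (hr₁ : 1 / 2 < r) (hr₂ : r ≤ ((2 : ℚ) ^ n + 1) * ((2 : ℚ) ^ n + 2) / ((2 : ℚ) ^ n) ^ 2)
    (hZ : X₀ + X₁ ≠ 0)
    (heq : ((X₀ : ℚ) - X₁) ^ 2 / (((X₀ : ℚ) + X₁) * X₀ * X₁) = 1 / r) :
    n = 3 ∧ X₀ + X₁ = -6 := by
  have hN8 : (8 : ℤ) ≤ 2 ^ n := le_trans (by norm_num) (pow_le_pow_right₀ (by norm_num) hn)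
  set N : ℤ := 2 ^ n with hNdef
  have hNq : ((2 : ℚ) ^ n) = (N : ℚ) := by rw [hNdef]; push_cast; rfl
  rw [hNq] at hr₂
  have hN8q : (8 : ℚ) ≤ N := by exact_mod_cast hN8
  have hrpos : (0 : ℚ) < r := by linarith
  have hrb : r ≤ 45 / 32 := by
    refine hr₂.trans ?_
    rw [div_le_iff₀ (by positivity)]
    nlinarith
  have hinv : (32 : ℚ) / 45 ≤ 1 / r := by rw [le_div_iff₀ hrpos]; linarith
  have hinv2 : 1 / r < 2 := by rw [div_lt_iff₀ hrpos]; linarith
  obtain ⟨k₀, hk₀⟩ := h₀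
  obtain ⟨k₁, hk₁⟩ := h₁
  have hk₀0 : k₀ ≠ 0 := fun h => hX₀ (by rw [h, mul_zero] at hk₀; omega)
  have hk₁0 : k₁ ≠ 0 := fun h => hX₁ (by rw [h, mul_zero] at hk₁; omega)
  -- the larger degree is positive, the smaller negative
  have key : ∀ a b k l : ℤ, a - 1 = N * k → b - 1 = N * l → 0 < k → l < 0 →
      ((a : ℚ) - b) ^ 2 / (((a : ℚ) + b) * a * b) = 1 / r → a + b ≠ 0 →
      n = 3 ∧ a + b = -6 := by
    intro a b k l hka hlb hk hl he hne
    have ha : N + 1 ≤ a := by nlinarith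
    have hb : b ≤ 1 - N := by nlinarith
    have haq : (0 : ℚ) < a := by exact_mod_cast (show (0 : ℤ) < a by omega)
    have hbq : (0 : ℚ) < -(b : ℚ) := by
      have : ((b : ℤ) : ℚ) < 0 := by exact_mod_cast (show b < 0 by omega)
      linarith
    set c : ℤ := -b with hc
    have hcb : (b : ℚ) = -(c : ℚ) := by rw [hc]; push_cast; ring
    -- the left side in positive variables
    have hlhs : ((a : ℚ) - b) ^ 2 / (((a : ℚ) + b) * a * b) =
        4 / ((c : ℚ) - a) + ((c : ℚ) - a) / (a * c) := by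
      have hcq : (c : ℚ) ≠ 0 := by
        have : (0 : ℤ) < c := by omega
        exact_mod_cast this.ne'
      have hca : (c : ℚ) - a ≠ 0 := by
        have : c - a ≠ 0 := by omega
        exact_mod_cast this
      have hac0 : (a : ℚ) * c ≠ 0 := mul_ne_zero haq.ne' hcq
      rw [hcb, div_add_div _ _ hca hac0]
      congr 1 <;> ring
    rw [hlhs] at he
    set z : ℤ := c - a with hz
    have hzq : (c : ℚ) - a = (z : ℚ) := by rw [hz]; push_cast; ring
    rw [hzq] at he
    have hac : (0 : ℚ) < (a : ℚ) * c := by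
      have : (0 : ℤ) < a * c := by nlinarith
      exact_mod_cast this
    rcases lt_or_gt_of_ne (show z ≠ 0 by omega) with hneg | hpos
    · have : (z : ℚ) < 0 := by exact_mod_cast hneg
      have h1 : 4 / (z : ℚ) < 0 := div_neg_of_pos_of_neg (by norm_num) this
      have h2 : (z : ℚ) / (a * c) < 0 := div_neg_of_neg_of_pos this hac
      linarith
    -- `z` is positive and is `-2` modulo `N`
    have hzmod : z = -2 - N * (k + l) := by rw [hz, hc]; nlinarith
    have hz2 : z ≠ 2 := by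
      intro h
      have : (4 : ℚ) / (z : ℚ) + (z : ℚ) / (a * c) ≥ 2 := by
        rw [h]; push_cast
        have : (0 : ℚ) ≤ 2 / ((a : ℚ) * c) := by positivity
        linarith
      linarith
    have hkl : k + l ≤ -1 := by
      by_contra hcon
      push Not at hcon
      nlinarith
    have hzN : N - 2 ≤ z := by nlinarith
    have haN : (N : ℚ) + 1 ≤ a := by exact_mod_cast ha
    have hcz : (z : ℚ) ≤ c := by exact_mod_cast (show z ≤ c by omega)
    have h2le : (z : ℚ) / (a * c) ≤ 1 / ((N : ℚ) + 1) := by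
      rw [div_le_div_iff₀ hac (by linarith)]
      nlinarith
    have h3le : 1 / ((N : ℚ) + 1) ≤ 1 / 9 := by
      apply one_div_le_one_div_of_le <;> linarith
    have hz7 : z < 7 := by
      by_contra hcon
      have hz7' : (7 : ℚ) ≤ z := by exact_mod_cast (show (7 : ℤ) ≤ z by omega)
      have : 4 / (z : ℚ) ≤ 4 / 7 := by
        apply div_le_div_of_nonneg_left <;> linarith
      linarith
    have hn3 : n = 3 := by
      by_contra hne3
      have : (16 : ℤ) ≤ N := le_trans (by norm_num)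
        (pow_le_pow_right₀ (by norm_num) (show 4 ≤ n by omega))
      omega
    subst hn3
    have hN : N = 8 := by rw [hNdef]; norm_num
    refine ⟨rfl, ?_⟩
    have : z = 6 := by rw [hN] at hzmod hzN; omega
    omega
  rcases lt_or_gt_of_ne hk₀0 with hk | hk <;> rcases lt_or_gt_of_ne hk₁0 with hl | hl
  · -- both negative
    exfalso
    have ha : (X₀ : ℚ) < 0 := by exact_mod_cast (show X₀ < 0 by nlinarith)
    have hb : (X₁ : ℚ) < 0 := by exact_mod_cast (show X₁ < 0 by nlinarith)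
    have : ((X₀ : ℚ) - X₁) ^ 2 / (((X₀ : ℚ) + X₁) * X₀ * X₁) ≤ 0 := by
      apply div_nonpos_of_nonneg_of_nonpos (sq_nonneg _)
      nlinarith [mul_pos_of_neg_of_neg ha hb]
    have : (0 : ℚ) < 1 / r := by positivity
    linarith
  · have he : ((X₁ : ℚ) - X₀) ^ 2 / (((X₁ : ℚ) + X₀) * X₁ * X₀) = 1 / r := by
      rw [← heq]; congr 1 <;> ring
    have h := key X₁ X₀ k₁ k₀ hk₁ hk₀ hl hk he (by omega)
    exact ⟨h.1, by omega⟩
  · exact key X₀ X₁ k₀ k₁ hk₀ hk₁ hk hl heq hZ
  · exfalso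
    have ha : (N : ℚ) + 1 ≤ X₀ := by exact_mod_cast (show N + 1 ≤ X₀ by nlinarith)
    have hb : (N : ℚ) + 1 ≤ X₁ := by exact_mod_cast (show N + 1 ≤ X₁ by nlinarith)
    have h := sameSign_lhs_lt (show (0 : ℚ) < X₀ by linarith) (show (0 : ℚ) < X₁ by linarith)
    have h9 : (1 : ℚ) / min (X₀ : ℚ) X₁ ≤ 1 / 9 := by
      apply one_div_le_one_div_of_le (by norm_num)
      exact le_min (by linarith) (by linarith)
    linarith

/-- The block of a moved linear character for `|S| = 8`. -/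
theorem movedBlock_degrees {p Z : ℤ} {x : ℕ} {δ : ℤ} {r v : ℚ}
    (hδ : δ = 1 ∨ δ = -1) (hx : (8 : ℤ) ∣ (x : ℤ) - δ)
    (hr : r * ((x : ℚ) - δ) ^ 2 = (x : ℚ) * ((x : ℚ) + δ)) (hr₁ : 0 < r) (hr₂ : r ≤ 45 / 32)
    (hv : 0 < v) (hp : p % 8 = 7) (hZ : Z % 8 = 6)
    (hpe : (p : ℚ) * v * (v + 2) = 8 * r * (1 + v) ^ 2)
    (hZe : (Z : ℚ) * (4 - v ^ 2) = 16 * r * (1 + v) ^ 2) :
    p = 7 ∨ Z = 6 ∨ (p = 15 ∧ x = 9 ∧ δ = 1) := by
  have hppos : (0 : ℚ) < p := by
    by_contra h
    push Not at h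
    have : (0 : ℚ) < 8 * r * (1 + v) ^ 2 := by positivity
    nlinarith [mul_pos hv (show (0 : ℚ) < v + 2 by linarith)]
  rcases le_or_gt 1 v with h1 | h1
  · have hq : (p : ℚ) ≤ 15 := by
      have h3 : 3 * (1 + v) ^ 2 ≤ 4 * (v * (v + 2)) := by nlinarith
      have h4 : (p : ℚ) * (v * (v + 2)) ≤ 15 * (v * (v + 2)) := by nlinarith
      exact le_of_mul_le_mul_right h4 (by positivity)
    have : p ≤ 15 := by exact_mod_cast hq
    have : 0 < p := by exact_mod_cast hppos
    have hp' : p = 7 ∨ p = 15 := by omega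
    rcases hp' with rfl | rfl
    · exact Or.inl rfl
    · refine Or.inr (Or.inr ⟨rfl, ?_⟩)
      push_cast at hpe
      have hr0 : r = 45 / 32 := by
        by_contra hne
        have : r < 45 / 32 := lt_of_le_of_ne hr₂ hne
        nlinarith [mul_pos (show (0 : ℚ) < 45 / 32 - r by linarith)
          (show (0 : ℚ) < (1 + v) ^ 2 by positivity)]
      rw [hr0] at hr
      have hi : (45 : ℤ) * ((x : ℤ) - δ) ^ 2 = 32 * ((x : ℤ) * ((x : ℤ) + δ)) := by
        have : (45 : ℚ) * ((x : ℚ) - δ) ^ 2 = 32 * ((x : ℚ) * ((x : ℚ) + δ)) := by linarith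
        exact_mod_cast this
      rcases hδ with rfl | rfl
      · have hxle : x ≤ 10 := by
          by_contra hc
          push Not at hc
          have : (11 : ℤ) ≤ x := by exact_mod_cast hc
          nlinarith
        interval_cases x <;> simp_all
      · exfalso
        have hxle : x ≤ 1 := by
          by_contra hc
          push Not at hc
          have : (2 : ℤ) ≤ x := by exact_mod_cast hc
          nlinarith
        interval_cases x <;> simp_all
  · have hv2 : (0 : ℚ) < 4 - v ^ 2 := by nlinarith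
    have hZpos : (0 : ℚ) < Z := by
      by_contra h
      push Not at h
      have : (0 : ℚ) < 16 * r * (1 + v) ^ 2 := by positivity
      nlinarith
    have hlt : 3 * (1 + v) ^ 2 < 4 * (4 - v ^ 2) := by nlinarith
    have hZ30 : (Z : ℚ) < 30 := by
      have h4 : (Z : ℚ) * (4 - v ^ 2) < 30 * (4 - v ^ 2) := by nlinarith
      exact lt_of_mul_lt_mul_right h4 hv2.le
    have : Z < 30 := by exact_mod_cast hZ30
    have : 0 < Z := by exact_mod_cast hZpos
    have hrel : 2 * (p : ℚ) * v = Z * (2 - v) := by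
      have h : (2 * (p : ℚ) * v - Z * (2 - v)) * (v + 2) = 0 := by nlinarith
      rcases mul_eq_zero.1 h with h | h <;> linarith
    have hZ' : Z = 6 ∨ Z = 14 ∨ Z = 22 := by omega
    rcases hZ' with rfl | rfl | rfl
    · exact Or.inr (Or.inl rfl)
    all_goals
      exfalso
      push_cast at hrel hZe
      have hp24 : (p : ℚ) ≤ 22 := by
        by_contra hc
        push Not at hc
        have hp23 : (23 : ℚ) ≤ p := by
          have : (22 : ℤ) < p := by exact_mod_cast hc
          exact_mod_cast (show (23 : ℤ) ≤ p by omega)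
        nlinarith [mul_le_mul_of_nonneg_right hp23 hv.le]
      have : p ≤ 22 := by exact_mod_cast hp24
      have : 0 < p := by exact_mod_cast hppos
      have hp' : p = 7 ∨ p = 15 := by omega
      rcases hp' with rfl | rfl
      all_goals push_cast at hrel
      · nlinarith
      · first
          | (have hv0 : v = 7 / 11 := by linarith)
          | (have hv0 : v = 11 / 13 := by linarith)
        subst hv0
        norm_num at hZe
        have hxle : x ≤ 20 := by
          by_contra hc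
          push Not at hc
          have : (21 : ℚ) ≤ x := by exact_mod_cast hc
          rcases hδ with rfl | rfl <;> push_cast at hr <;> nlinarith
        rcases hδ with rfl | rfl <;> interval_cases x <;>
          first
          | (norm_num at hx; done)
          | (norm_num at hr; done)
          | (norm_num at hr; nlinarith)

/-- A divisor of a small odd number congruent to `±1` modulo `p` is everything. -/
theorem sigma_eq {p m σ : ℕ} (hp : p.Prime) (hm : Odd m) (hmp : 2 * m ≤ p + 1) (hσ : σ ∣ m)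
    (hc : (p : ℤ) ∣ ((m / σ : ℕ) : ℤ) ^ 2 - 1) : σ = m := by
  obtain ⟨s, rfl⟩ := hσ
  have hσ0 : 0 < σ := by rcases hm with ⟨k, hk⟩; exact Nat.pos_of_ne_zero (by rintro rfl; omega)
  rw [Nat.mul_div_cancel_left _ hσ0] at hc
  have hs : Odd s := (Nat.odd_mul.1 hm).2
  have hsle : s ≤ σ * s := Nat.le_mul_of_pos_left _ hσ0
  have hpi : Prime (p : ℤ) := Nat.prime_iff_prime_int.1 hp
  have hc' : (p : ℤ) ∣ ((s : ℤ) - 1) * ((s : ℤ) + 1) := by
    convert hc using 1; ring
  obtain ⟨k, hk⟩ := hs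
  rcases hpi.dvd_or_dvd hc' with h | h
  · by_cases h1 : s = 1
    · simp [h1]
    · have := Int.le_of_dvd (by omega) h
      omega
  · have h2 := Int.le_of_dvd (by omega) h
    have : s = 1 ∨ (2 * s ≤ p + 1 ∧ p ≤ s + 1) := Or.inr ⟨by omega, by omega⟩
    have hp3 : p ≤ 3 := by omega
    have h1 : s = 1 := by omega
    simp [h1]

/-- The torus of the outer involution cannot fit into `O(C(t))`. -/
theorem secondTorus_absurd {p τ m a : ℕ} {e : ℤ} (hp : 3 ≤ p) (ha : 2 ≤ a) (hpτ : p ≤ τ)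
    (hm : 0 < m) (hmp : 2 * m ≤ p + 1) (he : e = 1 ∨ e = -1)
    (hdvd : (2 : ℤ) ^ (a - 1) * τ + e ∣ (m : ℤ)) : False := by
  have h2 : (2 : ℤ) ≤ 2 ^ (a - 1) := by
    calc (2 : ℤ) = 2 ^ 1 := by norm_num
      _ ≤ 2 ^ (a - 1) := pow_le_pow_right₀ (by norm_num) (by omega)
  have hle := Int.le_of_dvd (by exact_mod_cast hm) hdvd
  have hmul : (2 : ℤ) * τ ≤ 2 ^ (a - 1) * τ := mul_le_mul_of_nonneg_right h2 (by positivity)
  rcases he with rfl | rfl <;> omega

/-- No layer: `q₀ = 2 ^ n τ + e` cannot divide `m x (x + δ)` for `x = 2 ^ n j τ m + δ`.  Here `j`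
is a power of `p` (a layer), or `j = 1` and `m > 1` (the split case). -/
theorem layer_absurd {n p τ j m q₀ : ℕ} {e δ : ℤ} (hn : 3 ≤ n) (hp : p.Prime) (hp2 : Odd p)
    (hpτ : p ≤ τ) (hj : j ≤ τ) (hjo : Odd j) (hjp : (p ∣ j ∧ 0 < j) ∨ (j = 1 ∧ 1 < m))
    (hm : Odd m) (hmp : 2 * m ≤ p + 1)
    (he : e = 1 ∨ e = -1) (hδ : δ = 1 ∨ δ = -1) (hpe : (p : ℤ) ∣ (2 : ℤ) ^ n * τ)
    (hq : (q₀ : ℤ) = 2 ^ n * τ + e) (hpp : IsPrimePow q₀)
    (hdvd : (q₀ : ℤ) ∣ m * ((2 ^ n * j * τ * m + δ) * (2 ^ n * j * τ * m + 2 * δ))) : False := by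
  have hN : (8 : ℤ) ≤ 2 ^ n := le_trans (by norm_num) (pow_le_pow_right₀ (by norm_num) hn)
  have hτ3 : (3 : ℤ) ≤ τ := by
    have h3 := hp.two_le
    obtain ⟨k, hk⟩ := hp2
    omega
  have hmτ : (m : ℤ) ≤ τ := by omega
  have hmpos : 0 < m := by rcases hm with ⟨k, hk⟩; omega
  set P : ℤ := 2 ^ n * τ with hP
  have hP8 : 8 * (τ : ℤ) ≤ P := by rw [hP]; nlinarith
  set M : ℤ := (j : ℤ) * m with hM
  -- separate the three factors
  obtain ⟨ℓ, f, hℓ, hf, hpow⟩ := hpp
  have hℓi : Prime (ℓ : ℤ) := Nat.prime_iff_prime_int.1 hℓ.nat_prime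
  have hℓodd : ℓ ≠ 2 := by
    rintro rfl
    have : (2 : ℤ) ∣ P + e := by
      rw [← hq, ← hpow]; push_cast; exact dvd_pow_self 2 hf.ne'
    have h2P : (2 : ℤ) ∣ P := Dvd.dvd.mul_right (dvd_pow_self 2 (by omega)) _
    have := (Int.dvd_add_right h2P).1 this
    rcases he with rfl | rfl <;> omega
  set A : ℤ := 2 ^ n * j * τ * m + δ with hA
  set B : ℤ := 2 ^ n * j * τ * m + 2 * δ with hB
  have cop : ∀ {u w : ℤ}, (∀ d : ℤ, d ∣ u → d ∣ w → d ∣ 2) →
      ¬((ℓ : ℤ) ∣ u ∧ (ℓ : ℤ) ∣ w) := by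
    intro u w h hh
    have h2 := Int.natCast_dvd_natCast.1 (show (ℓ : ℤ) ∣ ((2 : ℕ) : ℤ) from h _ hh.1 hh.2)
    rcases (Nat.dvd_prime Nat.prime_two).1 h2 with h1 | h1
    · exact hℓ.nat_prime.one_lt.ne' h1
    · exact hℓodd h1
  have hq' : (q₀ : ℤ) = (ℓ : ℤ) ^ f := by rw [← hpow]; push_cast; rfl
  have hδ2 : ∀ d : ℤ, d ∣ δ → d ∣ 2 := by
    intro d hd; rcases hδ with rfl | rfl
    · exact dvd_trans hd (one_dvd _)
    · exact dvd_trans hd ⟨-2, by norm_num⟩
  have hmA : ¬((ℓ : ℤ) ∣ (m : ℤ) ∧ (ℓ : ℤ) ∣ A) := cop fun d h1 h2 => by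
    refine hδ2 d ((Int.dvd_add_right ?_).1 h2)
    exact Dvd.dvd.mul_left h1 _
  have hmB : ¬((ℓ : ℤ) ∣ (m : ℤ) ∧ (ℓ : ℤ) ∣ B) := cop fun d h1 h2 => by
    have h := (Int.dvd_add_right (Dvd.dvd.mul_left h1 _)).1 h2
    rcases hδ with rfl | rfl
    · simpa using h
    · simpa using h
  have hAB : ¬((ℓ : ℤ) ∣ A ∧ (ℓ : ℤ) ∣ B) := cop fun d h1 h2 => by
    refine hδ2 d ?_
    have h : δ = B - A := by rw [hA, hB]; ring
    rw [h]
    exact dvd_sub h2 h1
  have split : (q₀ : ℤ) ∣ (m : ℤ) ∨ (q₀ : ℤ) ∣ A ∨ (q₀ : ℤ) ∣ B := by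
    rw [hq'] at hdvd ⊢
    by_cases h : (ℓ : ℤ) ∣ (m : ℤ)
    · left
      have hnA : ¬(ℓ : ℤ) ∣ A := fun h' => hmA ⟨h, h'⟩
      have hnB : ¬(ℓ : ℤ) ∣ B := fun h' => hmB ⟨h, h'⟩
      have h3 : ¬(ℓ : ℤ) ∣ A * B := fun h' => (hℓi.dvd_or_dvd h').elim hnA hnB
      exact hℓi.pow_dvd_of_dvd_mul_right f h3 hdvd
    · right
      have h3 := hℓi.pow_dvd_of_dvd_mul_left f h hdvd
      by_cases h' : (ℓ : ℤ) ∣ A
      · left
        exact hℓi.pow_dvd_of_dvd_mul_right f (fun h'' => hAB ⟨h', h''⟩) h3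
      · right
        exact hℓi.pow_dvd_of_dvd_mul_left f h' h3
  have hcase : (q₀ : ℤ) ∣ M - e * δ ∨ (q₀ : ℤ) ∣ M - 2 * (e * δ) := by
    have he2 : e * e = 1 := by rcases he with rfl | rfl <;> norm_num
    rcases split with h | h | h
    · exfalso
      have := Int.le_of_dvd (by exact_mod_cast hmpos) h
      rw [hq] at this
      rcases he with rfl | rfl <;> omega
    · left
      have h1 : M - e * δ = (q₀ : ℤ) * (e * M) - e * A := by
        rw [hq, hA, hM, hP]; linear_combination (-(j : ℤ) * m) * he2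
      rw [h1]
      exact dvd_sub (Dvd.intro _ rfl) (Dvd.dvd.mul_left h _)
    · right
      have h1 : M - 2 * (e * δ) = (q₀ : ℤ) * (e * M) - e * B := by
        rw [hq, hB, hM, hP]; linear_combination (-(j : ℤ) * m) * he2
      rw [h1]
      exact dvd_sub (Dvd.intro _ rfl) (Dvd.dvd.mul_left h _)
  -- `M = λ q₀ + c e δ`
  have main : ∀ c : ℤ, (c = 1 ∨ c = 2) → (q₀ : ℤ) ∣ M - c * (e * δ) → False := by
    intro c hc hd
    obtain ⟨l, hl⟩ := hd
    rcases hjp with ⟨hpj, hj0⟩ | ⟨rfl, hm1⟩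
    swap
    · have hMm : M = (m : ℤ) := by rw [hM]; push_cast; ring
      have hM2 : (3 : ℤ) ≤ M := by
        rw [hMm]; rcases hm with ⟨k, hk⟩; omega
      have h1 : 0 < M - c * (e * δ) := by
        rcases hc with rfl | rfl <;> rcases he with rfl | rfl <;> rcases hδ with rfl | rfl <;>
          omega
      have h2 := Int.le_of_dvd h1 ⟨l, hl⟩
      rw [hq] at h2
      rcases hc with rfl | rfl <;> rcases he with rfl | rfl <;> rcases hδ with rfl | rfl <;> omega
    -- now `p ∣ M`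
    have hMp : (p : ℤ) ∣ M := Dvd.dvd.mul_right (Int.natCast_dvd_natCast.2 hpj) _
    have hMge : (3 : ℤ) ≤ M := by
      have h3 : 3 ≤ j := le_trans (by have := hp.two_le; obtain ⟨k, hk⟩ := hp2; omega)
        (Nat.le_of_dvd hj0 hpj)
      rw [hM]; nlinarith
    have hmp' : 2 * (m : ℤ) ≤ p + 1 := by exact_mod_cast hmp
    have hMle : 2 * M ≤ (τ : ℤ) * (p + 1) := by
      rw [hM]; nlinarith [show (j : ℤ) ≤ τ by exact_mod_cast hj]
    have hq7 : 7 * (τ : ℤ) ≤ q₀ := by rw [hq]; rcases he with rfl | rfl <;> omega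
    have hlpos : 0 < l := by
      by_contra hcon
      push Not at hcon
      have : (q₀ : ℤ) * l ≤ 0 := mul_nonpos_of_nonneg_of_nonpos (by positivity) hcon
      rcases hc with rfl | rfl <;> rcases he with rfl | rfl <;> rcases hδ with rfl | rfl <;> omega
    have hl14 : 14 * l < p + 3 := by
      by_contra hcon
      push Not at hcon
      have h7 : 7 * (τ : ℤ) * l ≤ q₀ * l := mul_le_mul_of_nonneg_right hq7 hlpos.le
      have hc4 : |c * (e * δ)| ≤ 2 := by
        rcases hc with rfl | rfl <;> rcases he with rfl | rfl <;> rcases hδ with rfl | rfl <;>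
          norm_num
      have := abs_le.1 hc4
      nlinarith
    -- modulo `p`
    have hlc : (p : ℤ) ∣ l + c * δ := by
      have h1 : (p : ℤ) ∣ e * (l + c * δ) := by
        have h2 : e * (l + c * δ) = M - P * l := by
          have : M = (P + e) * l + c * (e * δ) := by rw [← hq]; linarith
          rw [this]; ring
        rw [h2]
        exact dvd_sub hMp (Dvd.dvd.mul_right hpe _)
      rcases he with rfl | rfl
      · simpa using h1
      · simpa using dvd_neg.2 h1
    have hl0 : l + c * δ = 0 := by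
      by_contra hne
      have h3 := Int.le_of_dvd (abs_pos.2 hne) ((dvd_abs _ _).2 hlc)
      have hp3 : (3 : ℤ) ≤ p := by
        have := hp.two_le; obtain ⟨k, hk⟩ := hp2; omega
      rcases hc with rfl | rfl <;> rcases hδ with rfl | rfl <;>
        rcases abs_choice (l + _ * _) with h | h <;> rw [h] at h3 <;> omega
    -- so `δ = -1` and `M = c P` is even
    have hδn : δ = -1 := by
      rcases hδ with rfl | rfl
      · exfalso; rcases hc with rfl | rfl <;> omega
      · rfl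
    subst hδn
    have hlc' : l = c := by omega
    have hMeq : M = c * P := by
      have : M = (P + e) * l + c * (e * -1) := by rw [← hq]; linarith
      rw [this, hlc']; ring
    have hMev : (2 : ℤ) ∣ M := by
      rw [hMeq]
      exact Dvd.dvd.mul_left (Dvd.dvd.mul_right (dvd_pow_self 2 (by omega)) _) _
    obtain ⟨k, hk⟩ := hjo.mul hm
    have hMo : M = 2 * (k : ℤ) + 1 := by rw [hM]; exact_mod_cast hk
    omega
  rcases hcase with h | h
  · exact main 1 (Or.inl rfl) (by simpa using h)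
  · exact main 2 (Or.inr rfl) (by simpa using h)

end Cfsg.Agent.H15.GW
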