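import Mathlib

/-!
# Integral vectors of the block of a stable linear character

The coefficient vectors `A i` of that block on the cyclic part of a dihedral Sylow `2`-subgroup
have norm `3` (`i ≠ i₀`), `4` (`i = i₀`), pairwise inner product `2`, and are orthogonal to the
positive degree vector.  Either all short vectors share the same two entries with `A i₀`, or
there are exactly three of them, in one of two exceptional shapes.
-/

set_option autoImplicit false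

namespace Cfsg.Agent.H15.GW

open Finset

variable {X ι : Type*} [DecidableEq X] [Fintype ι] [DecidableEq ι]

/-- All short vectors share `p` and `q` with the long one. -/
def IsPairStar (F : Finset X) (A : ι → X → ℤ) (i₀ : ι) : Prop :=
  ∃ (p q r s : X) (e : {i // i ≠ i₀} → X),
    p ∈ F ∧ q ∈ F ∧ r ∈ F ∧ s ∈ F ∧ (∀ i, e i ∈ F) ∧
    p ≠ q ∧ p ≠ r ∧ p ≠ s ∧ q ≠ r ∧ q ≠ s ∧ r ≠ s ∧
    (∀ i, e i ≠ p ∧ e i ≠ q ∧ e i ≠ r ∧ e i ≠ s) ∧ Function.Injective e ∧
    (A i₀ p = 1 ∨ A i₀ p = -1) ∧ (A i₀ q = 1 ∨ A i₀ q = -1) ∧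
    (A i₀ r = 1 ∨ A i₀ r = -1) ∧ (A i₀ s = 1 ∨ A i₀ s = -1) ∧
    (∀ χ ∈ F, χ ≠ p → χ ≠ q → χ ≠ r → χ ≠ s → A i₀ χ = 0) ∧
    (∀ i : {i // i ≠ i₀}, A i p = A i₀ p ∧ A i q = A i₀ q ∧ (A i (e i) = 1 ∨ A i (e i) = -1) ∧
      ∀ χ ∈ F, χ ≠ p → χ ≠ q → χ ≠ e i → A i χ = 0)

/-- Three short vectors through one common entry and one external entry. -/
def IsPointStar (F : Finset X) (A : ι → X → ℤ) (i₀ i₁ i₂ i₃ : ι) : Prop :=
  ∃ p a b c e : X, p ∈ F ∧ a ∈ F ∧ b ∈ F ∧ c ∈ F ∧ e ∈ F ∧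
    [p, a, b, c, e].Nodup ∧
    (A i₀ p = 1 ∨ A i₀ p = -1) ∧ (A i₀ a = 1 ∨ A i₀ a = -1) ∧
    (A i₀ b = 1 ∨ A i₀ b = -1) ∧ (A i₀ c = 1 ∨ A i₀ c = -1) ∧
    (∀ χ ∈ F, χ ≠ p → χ ≠ a → χ ≠ b → χ ≠ c → A i₀ χ = 0) ∧
    (A i₁ e = 1 ∨ A i₁ e = -1) ∧ A i₂ e = A i₁ e ∧ A i₃ e = A i₁ e ∧
    A i₁ p = A i₀ p ∧ A i₂ p = A i₀ p ∧ A i₃ p = A i₀ p ∧
    A i₁ a = A i₀ a ∧ A i₂ b = A i₀ b ∧ A i₃ c = A i₀ c ∧
    (∀ χ ∈ F, χ ≠ p → χ ≠ a → χ ≠ e → A i₁ χ = 0) ∧
    (∀ χ ∈ F, χ ≠ p → χ ≠ b → χ ≠ e → A i₂ χ = 0) ∧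
    (∀ χ ∈ F, χ ≠ p → χ ≠ c → χ ≠ e → A i₃ χ = 0)

/-- Three short vectors along a triangle and one external entry. -/
def IsTriangle (F : Finset X) (A : ι → X → ℤ) (i₀ i₁ i₂ i₃ : ι) : Prop :=
  ∃ a b c s e : X, a ∈ F ∧ b ∈ F ∧ c ∈ F ∧ s ∈ F ∧ e ∈ F ∧
    [a, b, c, s, e].Nodup ∧
    (A i₀ a = 1 ∨ A i₀ a = -1) ∧ (A i₀ b = 1 ∨ A i₀ b = -1) ∧
    (A i₀ c = 1 ∨ A i₀ c = -1) ∧ (A i₀ s = 1 ∨ A i₀ s = -1) ∧
    (∀ χ ∈ F, χ ≠ a → χ ≠ b → χ ≠ c → χ ≠ s → A i₀ χ = 0) ∧
    (A i₁ e = 1 ∨ A i₁ e = -1) ∧ A i₂ e = A i₁ e ∧ A i₃ e = A i₁ e ∧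
    A i₁ b = A i₀ b ∧ A i₁ c = A i₀ c ∧ A i₂ a = A i₀ a ∧ A i₂ c = A i₀ c ∧
    A i₃ a = A i₀ a ∧ A i₃ b = A i₀ b ∧
    (∀ χ ∈ F, χ ≠ b → χ ≠ c → χ ≠ e → A i₁ χ = 0) ∧
    (∀ χ ∈ F, χ ≠ a → χ ≠ c → χ ≠ e → A i₂ χ = 0) ∧
    (∀ χ ∈ F, χ ≠ a → χ ≠ b → χ ≠ e → A i₃ χ = 0)

/-- The classification of the configurations. -/
theorem block_star (i₀ : ι) (hev : Even (Fintype.card ι)) (h2 : 2 ≤ Fintype.card ι)
    (F : Finset X) (A : ι → X → ℤ) (x : X → ℤ) (hx : ∀ χ ∈ F, 0 < x χ)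
    (hgram : ∀ i j, ∑ χ ∈ F, A i χ * A j χ =
      2 + (if i = j then (if i = i₀ then 2 else 1) else 0))
    (hrel : ∀ i, ∑ χ ∈ F, A i χ * x χ = 0) :
    IsPairStar F A i₀ ∨ (Fintype.card ι = 4 ∧ ∀ i₁ i₂ i₃ : ι, i₁ ≠ i₀ → i₂ ≠ i₀ → i₃ ≠ i₀ →
      i₁ ≠ i₂ → i₁ ≠ i₃ → i₂ ≠ i₃ →
        IsPointStar F A i₀ i₁ i₂ i₃ ∨ IsTriangle F A i₀ i₁ i₂ i₃) := by
  classical
  have hsq : ∀ i, ∀ χ ∈ F, A i χ * A i χ ≤ if i = i₀ then 4 else 3 := by
    intro i χ hχ
    refine le_trans (single_le_sum (f := fun η => A i η * A i η)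
      (fun η _ => mul_self_nonneg _) hχ) ?_
    rw [hgram, if_pos rfl]
    split_ifs <;> norm_num
  -- all entries are at most one in absolute value
  have hval : ∀ i, ∀ χ ∈ F, A i χ = 0 ∨ A i χ = 1 ∨ A i χ = -1 := by
    intro i χ hχ
    have h1 := hsq i χ hχ
    by_cases hi : i = i₀
    · subst hi
      rw [if_pos rfl] at h1
      have h3 : -3 < A i χ ∧ A i χ < 3 := ⟨by nlinarith, by nlinarith⟩
      by_contra hcon
      have habs : A i χ = 2 ∨ A i χ = -2 := by omega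
      -- then it is the only entry, against the degree relation
      have hz : ∀ η ∈ F, η ≠ χ → A i η = 0 := by
        intro η hη hne
        have h := add_le_sum (f := fun η => A i η * A i η) (fun η _ => mul_self_nonneg _) hχ hη
          (Ne.symm hne)
        rw [hgram, if_pos rfl, if_pos rfl] at h
        rcases habs with e | e <;> rw [e] at h <;> nlinarith [mul_self_nonneg (A i η)]
      have h := hrel i
      rw [sum_eq_single_of_mem χ hχ (fun η hη hne => by rw [hz η hη hne, zero_mul])] at h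
      have := hx χ hχ
      rcases habs with e | e <;> rw [e] at h <;> omega
    · rw [if_neg hi] at h1
      have h3 : -2 < A i χ ∧ A i χ < 2 := ⟨by nlinarith, by nlinarith⟩
      omega
  set supp : ι → Finset X := fun i => F.filter fun χ => A i χ ≠ 0 with hsupp
  have hcard : ∀ i, ((supp i).card : ℤ) = if i = i₀ then 4 else 3 := by
    intro i
    have h1 : ∑ χ ∈ F, A i χ * A i χ = ((supp i).card : ℤ) := by
      rw [hsupp, card_filter, Nat.cast_sum]
      refine sum_congr rfl fun χ hχ => ?_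
      rcases hval i χ hχ with h | h | h <;> simp [h]
    rw [← h1, hgram, if_pos rfl]
    split_ifs <;> norm_num
  set W := supp i₀ with hW
  have hWcard : W.card = 4 := by
    have := hcard i₀
    rw [if_pos rfl] at this
    exact_mod_cast this
  have hmemW : ∀ χ, χ ∈ W ↔ χ ∈ F ∧ A i₀ χ ≠ 0 := fun χ => by simp [hW, hsupp]
  have hmems : ∀ i χ, χ ∈ supp i ↔ χ ∈ F ∧ A i χ ≠ 0 := fun i χ => by simp [hsupp]
  -- a short vector: two entries in `W`, one outside
  have hshort : ∀ i, i ≠ i₀ → (supp i ∩ W).card = 2 ∧ (∀ χ ∈ supp i ∩ W, A i χ = A i₀ χ) ∧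
      ∃ e, supp i \ W = {e} := by
    intro i hi
    have hc3 : (supp i).card = 3 := by
      have := hcard i
      rw [if_neg hi] at this
      exact_mod_cast this
    have hg := hgram i i₀
    rw [if_neg hi, add_zero] at hg
    rw [← sum_subset (s₁ := supp i ∩ W) (fun χ hχ => ((hmems i χ).1 (mem_inter.1 hχ).1).1)] at hg
    swap
    · intro χ hχ hn
      by_contra hne
      exact hn (mem_inter.2 ⟨(hmems i χ).2 ⟨hχ, left_ne_zero_of_mul hne⟩,
        (hmemW χ).2 ⟨hχ, right_ne_zero_of_mul hne⟩⟩)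
    have hpm : ∀ χ ∈ supp i ∩ W, A i χ * A i₀ χ = 1 ∨ A i χ * A i₀ χ = -1 := by
      intro χ hχ
      obtain ⟨h1, h2⟩ := mem_inter.1 hχ
      obtain ⟨hF, hne⟩ := (hmems i χ).1 h1
      obtain ⟨-, hne0⟩ := (hmemW χ).1 h2
      rcases hval i χ hF with e | e | e <;> rcases hval i₀ χ hF with e' | e' | e' <;> simp_all
    set Pp := (supp i ∩ W).filter fun χ => A i χ * A i₀ χ = 1 with hPp
    set Pm := (supp i ∩ W).filter fun χ => ¬ A i χ * A i₀ χ = 1 with hPm
    have hsum : ∑ χ ∈ supp i ∩ W, A i χ * A i₀ χ = (Pp.card : ℤ) - Pm.card := by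
      rw [← sum_filter_add_sum_filter_not (supp i ∩ W) (fun χ => A i χ * A i₀ χ = 1),
        ← hPp, ← hPm, sum_congr rfl (g := fun _ => (1 : ℤ)) (fun χ hχ => (mem_filter.1 hχ).2),
        sum_congr rfl (s₁ := Pm) (g := fun _ => (-1 : ℤ))
          (fun χ hχ => (hpm χ (mem_filter.1 hχ).1).resolve_left (mem_filter.1 hχ).2)]
      simp [sub_eq_add_neg, hPp, hPm]
    have hsplit : Pp.card + Pm.card = (supp i ∩ W).card :=
      card_filter_add_card_filter_not _
    have hle : (supp i ∩ W).card ≤ 3 := hc3 ▸ card_le_card inter_subset_left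
    rw [hsum] at hg
    have hm0 : Pm.card = 0 := by omega
    have hc2 : (supp i ∩ W).card = 2 := by omega
    refine ⟨hc2, fun χ hχ => ?_, card_eq_one.1 ?_⟩
    · have h1 : A i χ * A i₀ χ = 1 := by
        by_contra hne
        have : χ ∈ Pm := mem_filter.2 ⟨hχ, hne⟩
        rw [card_eq_zero.1 hm0] at this
        exact notMem_empty _ this
      rcases Int.mul_eq_one_iff_eq_one_or_neg_one.1 h1 with ⟨e, e'⟩ | ⟨e, e'⟩ <;> rw [e, e']
    · have h3 := card_sdiff_add_card_inter (supp i) W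
      omega
  -- the two data attached to a short vector
  let P : ι → Finset X := fun i => supp i ∩ W
  have hFne : W.Nonempty := card_pos.1 (by omega)
  obtain ⟨w₀, hw₀⟩ := hFne
  let ev : ι → X := fun i => if hi : i ≠ i₀ then (hshort i hi).2.2.choose else w₀
  have hev' : ∀ i, i ≠ i₀ → supp i \ W = {ev i} := fun i hi => by
    simp only [ev, dif_pos hi]
    exact (hshort i hi).2.2.choose_spec
  have hevm : ∀ i, i ≠ i₀ → ev i ∈ supp i ∧ ev i ∉ W := fun i hi => by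
    have h := mem_singleton_self (ev i)
    rw [← hev' i hi, mem_sdiff] at h
    exact h
  have hzero : ∀ i, i ≠ i₀ → ∀ χ ∈ F, χ ∉ P i → χ ≠ ev i → A i χ = 0 := by
    intro i hi χ hχ hP hne
    by_contra h
    have hs := (hmems i χ).2 ⟨hχ, h⟩
    by_cases hw : χ ∈ W
    · exact hP (mem_inter.2 ⟨hs, hw⟩)
    · exact hne (mem_singleton.1 (hev' i hi ▸ mem_sdiff.2 ⟨hs, hw⟩))
  have hPW : ∀ i, P i ⊆ W := fun i => inter_subset_right
  have heval : ∀ i, i ≠ i₀ → A i (ev i) = 1 ∨ A i (ev i) = -1 := fun i hi => by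
    obtain ⟨hF, hne⟩ := (hmems i _).1 (hevm i hi).1
    exact (hval i _ hF).resolve_left hne
  have hsupEq : ∀ i, i ≠ i₀ → supp i = insert (ev i) (P i) := fun i hi => by
    rw [← sdiff_union_inter (supp i) W, hev' i hi, insert_eq]
  -- two short vectors
  have htwo : ∀ i k, i ≠ i₀ → k ≠ i₀ → i ≠ k →
      (P i = P k ∧ ev i ≠ ev k) ∨
        ((P i ∩ P k).card = 1 ∧ ev i = ev k ∧ A k (ev i) = A i (ev i)) := by
    intro i k hi hk hik
    have hg := hgram i k
    rw [if_neg hik, add_zero] at hg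
    rw [← sum_subset (s₁ := supp i) (fun χ hχ => ((hmems i χ).1 hχ).1) (fun χ hχ hn => by
      have : A i χ = 0 := by
        by_contra h
        exact hn ((hmems i χ).2 ⟨hχ, h⟩)
      rw [this, zero_mul]), hsupEq i hi,
      sum_insert (fun h => (hevm i hi).2 (hPW i h))] at hg
    have hP1 : ∑ χ ∈ P i, A i χ * A k χ = ((P i ∩ P k).card : ℤ) := by
      rw [← sum_inter_add_sum_sdiff (P i) (P k), sum_eq_zero (s := P i \ P k),
        add_zero, sum_congr rfl (g := fun _ => (1 : ℤ))]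
      · simp
      · intro χ hχ
        obtain ⟨h1, h2⟩ := mem_inter.1 hχ
        rw [(hshort i hi).2.1 χ h1, (hshort k hk).2.1 χ h2]
        obtain ⟨hF, hne⟩ := (hmemW χ).1 (hPW i h1)
        rcases (hval i₀ χ hF).resolve_left hne with e | e <;> rw [e] <;> norm_num
      · intro χ hχ
        obtain ⟨h1, h2⟩ := mem_sdiff.1 hχ
        have hF := ((hmemW χ).1 (hPW i h1)).1
        rw [hzero k hk χ hF h2 (fun e => (hevm k hk).2 (e ▸ hPW i h1)), mul_zero]
    rw [hP1] at hg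
    have hle : (P i ∩ P k).card ≤ 2 := (hshort i hi).1 ▸ card_le_card inter_subset_left
    obtain ⟨hFe, -⟩ := (hmems i _).1 (hevm i hi).1
    by_cases he : ev i = ev k
    · refine Or.inr ?_
      have hki := heval k hk
      rw [← he] at hki
      rcases heval i hi with e | e <;> rcases hki with e' | e' <;> rw [e, e'] at hg <;>
        norm_num at hg ⊢ <;>
        first
          | omega
          | exact ⟨by omega, he, by rw [e, e']⟩
    · refine Or.inl ⟨?_, he⟩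
      rw [hzero k hk _ hFe (fun h => (hevm i hi).2 (hPW k h)) he, mul_zero] at hg
      have h2' : (P i ∩ P k).card = 2 := by omega
      have e1 : P i ∩ P k = P i :=
        eq_of_subset_of_card_le inter_subset_left (by rw [h2']; exact (hshort i hi).1.le)
      have e2 : P i ∩ P k = P k :=
        eq_of_subset_of_card_le inter_subset_right (by rw [h2']; exact (hshort k hk).1.le)
      exact e1.symm.trans e2
  have hneq : ∀ i k, i ≠ i₀ → k ≠ i₀ → P i ≠ P k →
      (P i ∩ P k).card = 1 ∧ ev i = ev k ∧ A k (ev i) = A i (ev i) := fun i k hi hk hne =>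
    (htwo i k hi hk fun e => hne (by rw [e])).resolve_left fun h => hne h.1
  obtain ⟨j₀, hj₀⟩ : ∃ j, j ≠ i₀ := Fintype.exists_ne_of_one_lt_card (by omega) i₀
  by_cases hall : ∀ i, i ≠ i₀ → P i = P j₀
  · -- one pair
    left
    obtain ⟨p, q, hpq, hP⟩ := card_eq_two.1 (hshort j₀ hj₀).1
    have hpW : p ∈ W := hPW j₀ (by show p ∈ supp j₀ ∩ W; rw [hP]; exact mem_insert_self _ _)
    have hqW : q ∈ W := hPW j₀ (by show q ∈ supp j₀ ∩ W; rw [hP]; simp)
    have hrest : ((W.erase p).erase q).card = 2 := by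
      rw [card_erase_of_mem (mem_erase.2 ⟨hpq.symm, hqW⟩), card_erase_of_mem hpW, hWcard]
    obtain ⟨r, s, hrs, hR⟩ := card_eq_two.1 hrest
    have hr' : r ∈ (W.erase p).erase q := by rw [hR]; simp
    have hs' : s ∈ (W.erase p).erase q := by rw [hR]; simp
    simp only [mem_erase] at hr' hs'
    have hWeq : ∀ χ, χ ∈ W → χ = p ∨ χ = q ∨ χ = r ∨ χ = s := by
      intro χ hχ
      by_cases h1 : χ = p
      · exact Or.inl h1
      by_cases h2 : χ = q
      · exact Or.inr (Or.inl h2)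
      have : χ ∈ (W.erase p).erase q := mem_erase.2 ⟨h2, mem_erase.2 ⟨h1, hχ⟩⟩
      rw [hR] at this
      simp only [mem_insert, mem_singleton] at this
      tauto
    have hPi : ∀ i, i ≠ i₀ → P i = {p, q} := fun i hi => (hall i hi).trans hP
    have hpm : ∀ χ ∈ W, A i₀ χ = 1 ∨ A i₀ χ = -1 := fun χ hχ =>
      (hval i₀ χ ((hmemW χ).1 hχ).1).resolve_left ((hmemW χ).1 hχ).2
    refine ⟨p, q, r, s, fun i => ev i.1, ((hmemW p).1 hpW).1, ((hmemW q).1 hqW).1,
      ((hmemW r).1 hr'.2.2).1, ((hmemW s).1 hs'.2.2).1, fun i => ((hmems _ _).1 (hevm i.1 i.2).1).1,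
      hpq, hr'.2.1.symm, hs'.2.1.symm, hr'.1.symm, hs'.1.symm, hrs, fun i => ?_, fun i k hik => ?_,
      hpm p hpW, hpm q hqW, hpm r hr'.2.2, hpm s hs'.2.2, fun χ hχ h1 h2 h3 h4 => ?_,
      fun i => ⟨?_, ?_, heval i.1 i.2, fun χ hχ h1 h2 h3 => hzero i.1 i.2 χ hχ ?_ h3⟩⟩
    · have hn := (hevm i.1 i.2).2
      refine ⟨fun e => hn ?_, fun e => hn ?_, fun e => hn ?_, fun e => hn ?_⟩
      all_goals (change ev i.1 = _ at e; rw [e])
      exacts [hpW, hqW, hr'.2.2, hs'.2.2]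
    · by_contra hne
      have hne' : i.1 ≠ k.1 := fun e => hne (Subtype.ext e)
      rcases htwo i.1 k.1 i.2 k.2 hne' with ⟨-, h⟩ | ⟨h, -, -⟩
      · exact h hik
      · rw [hPi i.1 i.2, hPi k.1 k.2, inter_self, card_pair hpq] at h
        omega
    · by_contra h
      rcases hWeq χ ((hmemW χ).2 ⟨hχ, h⟩) with e | e | e | e
      exacts [h1 e, h2 e, h3 e, h4 e]
    · exact (hshort i.1 i.2).2.1 p (by show p ∈ P i.1; rw [hPi i.1 i.2]; simp)
    · exact (hshort i.1 i.2).2.1 q (by show q ∈ P i.1; rw [hPi i.1 i.2]; simp)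
    · rw [hPi i.1 i.2]; simp [h1, h2]
  · -- pairwise distinct pairs
    right
    push Not at hall
    obtain ⟨j₁, hj₁, hj01⟩ := hall
    have hdist : ∀ i k, i ≠ i₀ → k ≠ i₀ → i ≠ k → P i ≠ P k := by
      intro i k hi hk hik hPe
      have hie : ev i ≠ ev k := by
        rcases htwo i k hi hk hik with ⟨-, h⟩ | ⟨h, -, -⟩
        · exact h
        · rw [hPe, inter_self] at h
          have := (hshort k hk).1
          change (P k).card = 2 at this
          omega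
      obtain ⟨j, hj, hjne⟩ : ∃ j, j ≠ i₀ ∧ P j ≠ P i := by
        by_cases h0 : P j₀ = P i
        · exact ⟨j₁, hj₁, by rw [← h0]; exact hj01⟩
        · exact ⟨j₀, hj₀, h0⟩
      exact hie (((hneq j i hj hi hjne).2.1).symm.trans
        (hneq j k hj hk (hPe ▸ hjne)).2.1)
    -- at most three pairwise meeting pairs in a set of four
    let other : {i // i ≠ i₀} → Finset X := fun i => if w₀ ∈ P i.1 then P i.1 else W \ P i.1
    have hinj : Function.Injective other := by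
      intro i k hik
      by_contra hne
      have hne' : i.1 ≠ k.1 := fun e => hne (Subtype.ext e)
      have hd := hdist _ _ i.2 k.2 hne'
      have h1 := (hneq _ _ i.2 k.2 hd).1
      simp only [other] at hik
      split_ifs at hik with a b b
      · exact hd hik
      · rw [hik, sdiff_inter_self, card_empty] at h1; omega
      · rw [← hik, inter_sdiff_self, card_empty] at h1; omega
      · refine hd ?_
        rw [← Finset.sdiff_sdiff_eq_self (hPW i.1), hik, Finset.sdiff_sdiff_eq_self (hPW k.1)]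
    have him : ∀ i, other i ∈ (W.erase w₀).image fun y => ({w₀, y} : Finset X) := by
      intro i
      have hc : (other i).card = 2 ∧ other i ⊆ W ∧ w₀ ∈ other i := by
        simp only [other]
        split_ifs with hm
        · exact ⟨(hshort _ i.2).1, hPW _, hm⟩
        · refine ⟨?_, sdiff_subset, mem_sdiff.2 ⟨hw₀, hm⟩⟩
          rw [card_sdiff_of_subset (hPW _), hWcard, show (P i.1).card = 2 from (hshort _ i.2).1]
      obtain ⟨y, hy⟩ := card_eq_one.1 (show ((other i).erase w₀).card = 1 by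
        rw [card_erase_of_mem hc.2.2, hc.1])
      refine mem_image.2 ⟨y, ?_, ?_⟩
      · have : y ∈ (other i).erase w₀ := by rw [hy]; simp
        exact mem_erase.2 ⟨(mem_erase.1 this).1, hc.2.1 (mem_erase.1 this).2⟩
      · rw [← insert_erase hc.2.2, hy]
    have hle : Fintype.card {i // i ≠ i₀} ≤ 3 := by
      have h := card_le_card_of_injOn (s := (univ : Finset {i // i ≠ i₀})) other
        (fun i _ => mem_coe.2 (him i)) (fun i _ k _ h => hinj h)
      refine le_trans (card_univ (α := {i // i ≠ i₀}) ▸ h) (le_trans card_image_le ?_)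
      rw [card_erase_of_mem hw₀, hWcard]
    have hsub : Fintype.card {i // i ≠ i₀} = Fintype.card ι - 1 := by
      rw [Fintype.card_subtype_compl, Fintype.card_subtype_eq]
    have hge : 3 ≤ Fintype.card ι := by
      have h3 : ({i₀, j₀, j₁} : Finset ι).card = 3 := by
        rw [card_insert_of_notMem, card_pair (fun e => hj01 (by rw [e]))]
        simp [Ne.symm hj₀, Ne.symm hj₁]
      exact h3 ▸ card_le_univ _
    have hι4 : Fintype.card ι = 4 := by
      obtain ⟨m, hm⟩ := hev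
      omega
    refine ⟨hι4, fun i₁ i₂ i₃ h1 h2 h3 h12 h13 h23 => ?_⟩
    obtain ⟨c12, e12, s12⟩ := hneq i₁ i₂ h1 h2 (hdist _ _ h1 h2 h12)
    obtain ⟨c13, e13, s13⟩ := hneq i₁ i₃ h1 h3 (hdist _ _ h1 h3 h13)
    obtain ⟨c23, e23, s23⟩ := hneq i₂ i₃ h2 h3 (hdist _ _ h2 h3 h23)
    obtain ⟨p, hp⟩ := card_eq_one.1 c12
    have hp1 : p ∈ P i₁ ∧ p ∈ P i₂ := mem_inter.1 (by rw [hp]; simp)
    obtain ⟨a, ha⟩ := card_eq_one.1 (show ((P i₁).erase p).card = 1 by
      rw [card_erase_of_mem hp1.1, show (P i₁).card = 2 from (hshort _ h1).1])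
    obtain ⟨b, hb⟩ := card_eq_one.1 (show ((P i₂).erase p).card = 1 by
      rw [card_erase_of_mem hp1.2, show (P i₂).card = 2 from (hshort _ h2).1])
    have hP1 : P i₁ = {p, a} := by rw [← insert_erase hp1.1, ha]
    have hP2 : P i₂ = {p, b} := by rw [← insert_erase hp1.2, hb]
    have hap : a ≠ p := (mem_erase.1 (show a ∈ (P i₁).erase p by rw [ha]; simp)).1
    have hbp : b ≠ p := (mem_erase.1 (show b ∈ (P i₂).erase p by rw [hb]; simp)).1
    have hab : a ≠ b := fun e => hdist _ _ h1 h2 h12 (by rw [hP1, hP2, e])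
    have hP3 : (P i₃).card = 2 := (hshort _ h3).1
    have hv : ∀ i, i ≠ i₀ → ∀ χ ∈ P i, A i χ = A i₀ χ := fun i hi χ hχ => (hshort i hi).2.1 χ hχ
    have hpm : ∀ χ ∈ W, A i₀ χ = 1 ∨ A i₀ χ = -1 := fun χ hχ =>
      (hval i₀ χ ((hmemW χ).1 hχ).1).resolve_left ((hmemW χ).1 hχ).2
    have hF : ∀ χ ∈ W, χ ∈ F := fun χ hχ => ((hmemW χ).1 hχ).1
    set e := ev i₁ with hedef
    have heF : e ∈ F := ((hmems _ _).1 (hevm i₁ h1).1).1
    have heW : ∀ χ ∈ W, χ ≠ e := fun χ hχ h => (hevm i₁ h1).2 (by rw [← hedef, ← h]; exact hχ)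
    have hpW : p ∈ W := hPW _ hp1.1
    have haW : a ∈ W := hPW i₁ (by rw [hP1]; simp)
    have hbW : b ∈ W := hPW i₂ (by rw [hP2]; simp)
    obtain ⟨c, hc⟩ := card_eq_one.1 (show (((W.erase p).erase a).erase b).card = 1 by
      rw [card_erase_of_mem (mem_erase.2 ⟨hab.symm, mem_erase.2 ⟨hbp, hbW⟩⟩),
        card_erase_of_mem (mem_erase.2 ⟨hap, haW⟩), card_erase_of_mem hpW, hWcard])
    have hcm : c ∈ ((W.erase p).erase a).erase b := by rw [hc]; simp
    simp only [mem_erase] at hcm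
    obtain ⟨hcb, hca, hcp, hcW⟩ := hcm
    have hWeq : ∀ χ ∈ W, χ = p ∨ χ = a ∨ χ = b ∨ χ = c := by
      intro χ hχ
      by_contra hcon
      push Not at hcon
      have : χ ∈ ({c} : Finset X) := by
        rw [← hc]
        exact mem_erase.2 ⟨hcon.2.2.1, mem_erase.2 ⟨hcon.2.1, mem_erase.2 ⟨hcon.1, hχ⟩⟩⟩
      exact hcon.2.2.2 (mem_singleton.1 this)
    have hW0 : ∀ χ ∈ F, χ ≠ p → χ ≠ a → χ ≠ b → χ ≠ c → A i₀ χ = 0 := by
      intro χ hχ n1 n2 n3 n4
      by_contra h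
      rcases hWeq χ ((hmemW χ).2 ⟨hχ, h⟩) with r | r | r | r
      exacts [n1 r, n2 r, n3 r, n4 r]
    by_cases hp3 : p ∈ P i₃
    · left
      obtain ⟨c', hc'⟩ := card_eq_one.1 (show ((P i₃).erase p).card = 1 by
        rw [card_erase_of_mem hp3, hP3])
      have hP3' : P i₃ = {p, c'} := by rw [← insert_erase hp3, hc']
      have hcm' : c' ∈ (P i₃).erase p := by rw [hc']; simp
      have hc'W : c' ∈ W := hPW _ (mem_erase.1 hcm').2
      have hcc : c' = c := by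
        rcases hWeq c' hc'W with r | r | r | r
        · exact absurd r (mem_erase.1 hcm').1
        · exact absurd (hP3'.trans (by rw [r, hP1])) (hdist _ _ h3 h1 h13.symm)
        · exact absurd (hP3'.trans (by rw [r, hP2])) (hdist _ _ h3 h2 h23.symm)
        · exact r
      subst hcc
      refine ⟨p, a, b, c', e, hF p hpW, hF a haW, hF b hbW, hF c' hcW, heF, ?_,
        hpm p hpW, hpm a haW, hpm b hbW, hpm c' hcW, hW0, heval i₁ h1, s12, s13,
        hv i₁ h1 p hp1.1, hv i₂ h2 p hp1.2, hv i₃ h3 p hp3, hv i₁ h1 a (by rw [hP1]; simp),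
        hv i₂ h2 b (by rw [hP2]; simp), hv i₃ h3 c' (by rw [hP3']; simp), ?_, ?_, ?_⟩
      · simp [hap.symm, hbp.symm, hcp.symm, hab, hca.symm, hcb.symm, heW p hpW, heW a haW,
          heW b hbW, heW c' hcW]
      · exact fun χ hχ n1 n2 n3 => hzero i₁ h1 χ hχ (by rw [hP1]; simp [n1, n2]) n3
      · exact fun χ hχ n1 n2 n3 => hzero i₂ h2 χ hχ (by rw [hP2]; simp [n1, n2]) (e12 ▸ n3)
      · exact fun χ hχ n1 n2 n3 => hzero i₃ h3 χ hχ (by rw [hP3']; simp [n1, n2]) (e13 ▸ n3)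
    · right
      have ha3 : a ∈ P i₃ := by
        obtain ⟨y, hy⟩ := card_eq_one.1 c13
        have hy' : y ∈ P i₁ ∧ y ∈ P i₃ := mem_inter.1 (by rw [hy]; simp)
        rw [hP1] at hy'
        simp only [mem_insert, mem_singleton] at hy'
        rcases hy'.1 with r | r
        · exact absurd (r ▸ hy'.2) hp3
        · exact r ▸ hy'.2
      have hb3 : b ∈ P i₃ := by
        obtain ⟨y, hy⟩ := card_eq_one.1 c23
        have hy' : y ∈ P i₂ ∧ y ∈ P i₃ := mem_inter.1 (by rw [hy]; simp)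
        rw [hP2] at hy'
        simp only [mem_insert, mem_singleton] at hy'
        rcases hy'.1 with r | r
        · exact absurd (r ▸ hy'.2) hp3
        · exact r ▸ hy'.2
      have hP3' : P i₃ = {a, b} := (eq_of_subset_of_card_le
        (insert_subset ha3 (singleton_subset_iff.2 hb3)) (by rw [hP3, card_pair hab])).symm
      -- the vertices opposite `i₁, i₂, i₃` are `b, a, p`
      refine ⟨b, a, p, c, e, hF b hbW, hF a haW, hF p hpW, hF c hcW, heF, ?_,
        hpm b hbW, hpm a haW, hpm p hpW, hpm c hcW,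
        fun χ hχ n1 n2 n3 n4 => hW0 χ hχ n3 n2 n1 n4, heval i₁ h1, s12, s13,
        hv i₁ h1 a (by rw [hP1]; simp), hv i₁ h1 p hp1.1, hv i₂ h2 b (by rw [hP2]; simp),
        hv i₂ h2 p hp1.2, hv i₃ h3 b hb3, hv i₃ h3 a ha3, ?_, ?_, ?_⟩
      · simp [hap, hbp, hcp.symm, hab.symm, hca.symm, hcb.symm, heW p hpW, heW a haW,
          heW b hbW, heW c hcW]
      · exact fun χ hχ n1 n2 n3 => hzero i₁ h1 χ hχ (by rw [hP1]; simp [n1, n2]) n3
      · exact fun χ hχ n1 n2 n3 => hzero i₂ h2 χ hχ (by rw [hP2]; simp [n1, n2]) (e12 ▸ n3)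
      · exact fun χ hχ n1 n2 n3 => hzero i₃ h3 χ hχ (by rw [hP3']; simp [n1, n2]) (e13 ▸ n3)

end Cfsg.Agent.H15.GW
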