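import Cfsg.Agent.H15.GW.LinearKernel
import Cfsg.Agent.H15.GW.BlockStar
import Cfsg.Agent.H15.GW.Arith
import Cfsg.Agent.H35.GW.Numeric

/-!
# The block of a stable linear character

Its coefficient vectors on the cyclic part `⟨σ⟩` of the dihedral Sylow `2`-subgroup have the Gram
matrix of the principal block.  Comparing the weighted counts of pairs of involutions with the
principal block leaves only `|P| = 8` and a character of degree `6` which is `± 2 ψ` on the
section of the involution.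
-/

open scoped ComplexConjugate

set_option autoImplicit false
set_option linter.style.haveILetI false

namespace Cfsg.Agent.H15.GW

open BlockBasic CharBasic Cores H39

universe u

/-- The weight of the coefficient `i` at `σ ^ l`. -/
noncomputable def cycWt (ζ : ℂ) (h : ℕ) (i : Fin h) (l : ℕ) : ℂ :=
  if i.1 + 1 = h then (-1) ^ l else ζ ^ ((i.1 + 1) * l) + (ζ ^ ((i.1 + 1) * l))⁻¹

/-- A sum of an even function over `ZMod (2 * h)`. -/
theorem sum_zmod_sym {h : ℕ} [NeZero (2 * h)] (f : ZMod (2 * h) → ℂ) (hf : ∀ j, f (-j) = f j) :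
    ∑ j, f j = f 0 + 2 * ∑ i : Fin h, f ((i.1 + 1 : ℕ) : ZMod (2 * h)) - f (h : ZMod (2 * h)) := by
  have e1 : ∑ j, f j = ∑ k ∈ Finset.range (2 * h), f (k : ZMod (2 * h)) := by
    refine Finset.sum_bij' (fun j _ => j.val) (fun k _ => (k : ZMod (2 * h))) ?_ ?_ ?_ ?_ ?_
    · exact fun j _ => Finset.mem_range.2 (ZMod.val_lt j)
    · exact fun k _ => Finset.mem_univ _
    · exact fun j _ => ZMod.natCast_zmod_val j
    · exact fun k hk => ZMod.val_natCast_of_lt (Finset.mem_range.1 hk)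
    · exact fun j _ => by rw [ZMod.natCast_zmod_val]
  have e2 : ∑ k ∈ Finset.range h, f ((h + k : ℕ) : ZMod (2 * h)) =
      ∑ k ∈ Finset.range h, f ((k + 1 : ℕ) : ZMod (2 * h)) := by
    rw [← Finset.sum_range_reflect]
    refine Finset.sum_congr rfl fun k hk => ?_
    have hk' := Finset.mem_range.1 hk
    rw [← hf ((k + 1 : ℕ) : ZMod (2 * h))]
    congr 1
    refine eq_neg_of_add_eq_zero_left ?_
    rw [← Nat.cast_add, show h + (h - 1 - k) + (k + 1) = 2 * h by omega, ZMod.natCast_self]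
  have e3 := Finset.sum_range_succ (fun k => f (k : ZMod (2 * h))) h
  have e4 := Finset.sum_range_succ' (fun k => f (k : ZMod (2 * h))) h
  simp only [Nat.cast_zero] at e4
  have e5 : ∑ k ∈ Finset.range (2 * h), f (k : ZMod (2 * h)) =
      ∑ k ∈ Finset.range (h + h), f (k : ZMod (2 * h)) :=
    Finset.sum_congr (congrArg Finset.range (two_mul h)) fun _ _ => rfl
  rw [e1, e5, Finset.sum_range_add, e2,
    Fin.sum_univ_eq_sum_range fun i => f ((i + 1 : ℕ) : ZMod (2 * h))]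
  linear_combination e4 - e3

variable {G : Type u} [Group G] [Finite G]

section

variable {P : Sylow 2 G} {h : ℕ} [NeZero (2 * h)] {σ τ : G} {ψ' : AddChar (ZMod (2 * h)) ℂ}
  {ζ : ℂ}

/-- Values on the cyclic part in terms of the coefficients. -/
theorem apply_pow_eq (hD : DGen (P : Subgroup G) h σ τ) (hh : 1 ≤ h)
    (hζ : IsPrimitiveRoot ζ (2 * h)) (hψ : ψ'.IsPrimitive)
    (hψnat : ∀ k : ℕ, ψ' (k : ZMod (2 * h)) = ζ ^ k) (χ : IrrCharacter G) (A : Fin h → ℤ)
    (hA : ∀ i : Fin h, (A i : ℂ) = dCoef σ ψ' (χ : G → ℂ) ((i.1 + 1 : ℕ) : ZMod (2 * h)))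
    {l : ℕ} (hl : 0 < l) (hl2 : l < 2 * h) :
    (χ : G → ℂ) (σ ^ l) = -∑ i : Fin h, (A i : ℂ) * cycWt ζ h i l := by
  set b : ZMod (2 * h) := (l : ZMod (2 * h)) with hb
  have hl0 : b ≠ 0 := fun e => by
    have := natCast_zmod_inj (m := 2 * h) (a := l) (b := 0) hl2 (by omega) (by simpa [hb] using e)
    omega
  set g : ZMod (2 * h) → ℂ := fun j =>
    dCoef σ ψ' (χ : G → ℂ) j * (ψ' (j * b) + ψ' (-j * b)) with hg
  have hgeven : ∀ j, g (-j) = g j := fun j => by
    simp only [hg, dCoef_neg hD, neg_neg]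
    ring
  have h2 : ∑ j : ZMod (2 * h), g j =
      2 * ∑ j : ZMod (2 * h), dCoef σ ψ' (χ : G → ℂ) j * ψ' (j * b) := by
    simp only [hg, mul_add, Finset.sum_add_distrib]
    refine Eq.trans (congrArg₂ (· + ·) rfl ?_) (two_mul _).symm
    refine Fintype.sum_equiv (Equiv.neg _) _ _ fun j => ?_
    simp [dCoef_neg hD]
  have hg0 : g 0 = 0 := by simp [hg, dCoef_zero]
  have hζh : ζ ^ h = -1 := by
    have e : ζ ^ h * ζ ^ h = 1 := by rw [← pow_add, ← two_mul, hζ.pow_eq_one]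
    exact (mul_self_eq_one_iff.1 e).resolve_left (hζ.pow_ne_one_of_pos_of_lt (by omega) (by omega))
  have hgi : ∀ i : Fin h, g ((i.1 + 1 : ℕ) : ZMod (2 * h)) =
      (A i : ℂ) * (ζ ^ ((i.1 + 1) * l) + (ζ ^ ((i.1 + 1) * l))⁻¹) := by
    intro i
    simp only [hg]
    rw [← hA, neg_mul, AddChar.map_neg_eq_inv, hb, ← Nat.cast_mul, hψnat]
  have hneg : ((-1 : ℂ) ^ l)⁻¹ = (-1) ^ l := by rcases neg_one_pow_eq_or ℂ l with e | e <;> rw [e] <;> norm_num
  set i₀ : Fin h := ⟨h - 1, by omega⟩ with hi₀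
  have hgh : g (h : ZMod (2 * h)) = 2 * ((A i₀ : ℂ) * (-1) ^ l) := by
    have e := hgi i₀
    rw [show i₀.1 + 1 = h by simp [hi₀]; omega, pow_mul, hζh, hneg] at e
    rw [e]; ring
  have hwt : ∑ i : Fin h, (A i : ℂ) * cycWt ζ h i l =
      (∑ i : Fin h, g ((i.1 + 1 : ℕ) : ZMod (2 * h))) - (A i₀ : ℂ) * (-1) ^ l := by
    rw [eq_sub_iff_add_eq, ← Finset.add_sum_erase _ _ (Finset.mem_univ i₀),
      ← Finset.add_sum_erase _ (fun i : Fin h => g ((i.1 + 1 : ℕ) : ZMod (2 * h)))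
        (Finset.mem_univ i₀), Finset.sum_congr rfl (g := fun i => g ((i.1 + 1 : ℕ) : ZMod (2 * h)))
        fun i hi => ?_]
    · rw [hgi, cycWt, if_pos (by simp [hi₀]; omega), show i₀.1 + 1 = h by simp [hi₀]; omega,
        pow_mul, hζh, hneg]
      ring
    · rw [hgi, cycWt, if_neg fun e => (Finset.mem_erase.1 hi).1 (Fin.ext (by simp [hi₀]; omega))]
  rw [← dPow_natCast hD.oc, apply_dPow_eq hD hψ χ hl0, hwt]
  rw [sum_zmod_sym g hgeven, hg0, hgh] at h2
  linear_combination (1 / 2 : ℂ) * h2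

end

/-- The weights add up to `-1`. -/
theorem sum_cycWt {h : ℕ} {ζ : ℂ} (hh : 1 ≤ h) (hζ : IsPrimitiveRoot ζ (2 * h)) {l : ℕ}
    (hl : 0 < l) (hl2 : l < 2 * h) : ∑ i : Fin h, cycWt ζ h i l = -1 := by
  haveI : NeZero (2 * h) := ⟨by omega⟩
  let ψ' : AddChar (ZMod (2 * h)) ℂ := AddChar.zmodChar (2 * h) hζ.pow_eq_one
  have hψ : ψ'.IsPrimitive := AddChar.zmodChar_primitive_of_primitive_root (2 * h) hζ
  have hψnat : ∀ k : ℕ, ψ' (k : ZMod (2 * h)) = ζ ^ k := fun k =>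
    AddChar.zmodChar_apply' hζ.pow_eq_one k
  set b : ZMod (2 * h) := (l : ZMod (2 * h)) with hb
  have hb0 : b ≠ 0 := fun e => by
    have := natCast_zmod_inj (m := 2 * h) (a := l) (b := 0) hl2 (by omega) (by simpa [hb] using e)
    omega
  set g : ZMod (2 * h) → ℂ := fun j => ψ' (j * b) + ψ' (-j * b) with hg
  have h2 := sum_zmod_sym g fun j => by simp only [hg, neg_neg]; ring
  have h3 : ∑ j : ZMod (2 * h), g j = 0 := by
    simp only [hg, Finset.sum_add_distrib]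
    rw [AddChar.sum_mulShift b hψ, if_neg hb0,
      Fintype.sum_equiv (Equiv.neg _) (fun j : ZMod (2 * h) => ψ' (-j * b)) (fun j => ψ' (j * b))
        (fun j => rfl), AddChar.sum_mulShift b hψ, if_neg hb0]
    simp
  have hζh : ζ ^ h = -1 := by
    have e : ζ ^ h * ζ ^ h = 1 := by rw [← pow_add, ← two_mul, hζ.pow_eq_one]
    exact (mul_self_eq_one_iff.1 e).resolve_left (hζ.pow_ne_one_of_pos_of_lt (by omega) (by omega))
  have hgi : ∀ k : ℕ, g (k : ZMod (2 * h)) = ζ ^ (k * l) + (ζ ^ (k * l))⁻¹ := fun k => by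
    simp only [hg, neg_mul, AddChar.map_neg_eq_inv, hb, ← Nat.cast_mul, hψnat]
  have hneg : ((-1 : ℂ) ^ l)⁻¹ = (-1) ^ l := by rcases neg_one_pow_eq_or ℂ l with e | e <;> rw [e] <;> norm_num
  have hg0 : g 0 = 2 := by simp [hg]; norm_num
  set i₀ : Fin h := ⟨h - 1, by omega⟩ with hi₀
  have hwt : ∑ i : Fin h, cycWt ζ h i l =
      (∑ i : Fin h, g ((i.1 + 1 : ℕ) : ZMod (2 * h))) - (-1) ^ l := by
    rw [eq_sub_iff_add_eq, ← Finset.add_sum_erase _ _ (Finset.mem_univ i₀),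
      ← Finset.add_sum_erase _ (fun i : Fin h => g ((i.1 + 1 : ℕ) : ZMod (2 * h)))
        (Finset.mem_univ i₀), Finset.sum_congr rfl (g := fun i => g ((i.1 + 1 : ℕ) : ZMod (2 * h)))
        fun i hi => ?_]
    · rw [hgi, cycWt, if_pos (by simp [hi₀]; omega), show i₀.1 + 1 = h by simp [hi₀]; omega,
        pow_mul, hζh, hneg]
      ring
    · rw [hgi, cycWt, if_neg fun e => (Finset.mem_erase.1 hi).1 (Fin.ext (by simp [hi₀]; omega))]
  rw [h3, hg0, hgi, pow_mul, hζh, hneg] at h2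
  rw [hwt]
  linear_combination (-1 / 2 : ℂ) * h2

open scoped Classical in
/-- Products of coefficient vectors as sums over the cyclic group. -/
theorem sum_dCoef_mul {m : ℕ} [NeZero m] [Fintype G] (σ : G) (ψ' : AddChar (ZMod m) ℂ)
    (S : IrrCharacter G → Prop) (i j : ZMod m) :
    (∑ χ : IrrCharacter G, if S χ then
        dCoef σ ψ' (χ : G → ℂ) i * conj (dCoef σ ψ' (χ : G → ℂ) j) else 0) =
      (m : ℂ)⁻¹ * (m : ℂ)⁻¹ * ∑ a : ZMod m, ∑ b : ZMod m,
        (1 - ψ' (i * a)) * conj (1 - ψ' (j * b)) *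
          ∑ χ : IrrCharacter G,
            if S χ then (χ : G → ℂ) (dPow σ a) * conj ((χ : G → ℂ) (dPow σ b)) else 0 := by
  simp only [Finset.mul_sum]
  rw [Finset.sum_congr rfl fun a _ => Finset.sum_comm, Finset.sum_comm]
  refine Finset.sum_congr rfl fun χ _ => ?_
  split_ifs
  · simp only [dCoef, map_mul, map_sum, map_inv₀, Complex.conj_natCast, Finset.mul_sum,
      Finset.sum_mul]
    rw [Finset.sum_comm]
    exact Finset.sum_congr rfl fun a _ => Finset.sum_congr rfl fun b _ => by ring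
  · simp

/-- The two exceptional shapes are impossible. -/
theorem exceptional_absurd {x : ℕ} {δ a : ℤ} (hδ : δ = 1 ∨ δ = -1) (h16 : (16 : ℤ) ∣ (x : ℤ) - δ)
    (h : 3 * a * ((x : ℤ) - δ) ^ 2 = -16 * ((x : ℤ) * (x + δ)) ∨
      a * ((x : ℤ) - δ) ^ 2 = 16 * ((x : ℤ) * (x + δ))) : False := by
  obtain ⟨k, hk⟩ := h16
  have hx : (x : ℤ) = 16 * k + δ := by omega
  have hd : δ * δ = 1 := by rcases hδ with rfl | rfl <;> norm_num
  rw [hk, hx] at h
  rcases h with h | h
  · have h2 : -(16 * k + δ) * (16 * k + δ + δ) = 48 * a * k ^ 2 := by linarith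
    have : (2 : ℤ) = 16 * (-(3 * a * k ^ 2) - 16 * k ^ 2 - 3 * δ * k) := by nlinarith
    omega
  · have h2 : (16 * k + δ) * (16 * k + δ + δ) = 16 * a * k ^ 2 := by linarith
    have : (2 : ℤ) = 16 * (a * k ^ 2 - 16 * k ^ 2 - 3 * δ * k) := by nlinarith
    omega

variable [Fintype G] {t : G} {ψ : G → ℂ} {P : Sylow 2 G} {h : ℕ} {σ τ : G}

open scoped Classical in
/-- The weighted pair count of the principal block, evaluated. -/
theorem principal_count (hD : DGen (P : Subgroup G) h σ τ) (hh : 2 ≤ h)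
    (hone : ∀ a b : G, orderOf a = 2 → orderOf b = 2 → IsConj a b) {M : Ideal AlgInt}
    (hM : IsPModular 2 M) :
    ∃ (x : ℕ) (δ : ℤ), (δ = 1 ∨ δ = -1) ∧ 0 < x ∧ (x : ℤ) ≠ δ ∧ (x : ℂ) + δ ≠ 0 ∧
      ((4 * h : ℕ) : ℤ) ∣ (x : ℤ) - δ ∧
      (∑ᶠ χ ∈ principalBlock M G, conj ((χ : G → ℂ) (σ ^ h)) * conj ((χ : G → ℂ) (σ ^ h)) *
          (χ : G → ℂ) σ / (χ : G → ℂ) 1) +
        (∑ᶠ χ ∈ principalBlock M G, conj ((χ : G → ℂ) (σ ^ h)) * conj ((χ : G → ℂ) (σ ^ h)) *
          (χ : G → ℂ) (σ ^ h) / (χ : G → ℂ) 1) =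
        2 * ((x : ℂ) - δ) ^ 2 / ((x : ℂ) * ((x : ℂ) + δ)) := by
  have hζ := Complex.isPrimitiveRoot_exp (2 * h) (by omega)
  set ζ : ℂ := Complex.exp (2 * Real.pi * Complex.I / ((2 * h : ℕ) : ℂ)) with hζdef
  obtain ⟨χ₁, χ₂, χ₃, χ', δ₁, δ₂, δ₃, hδ₁, hδ₂, hδ₃, hinj, hne, hχ', hB, hval, hρ⟩ :=
    dihedral_principal_block hD hh hM hζ
  have hh1 : (-1 : ℂ) ^ (h + 1) = -1 := by
    rw [pow_succ, (even_of_dGen hD hh).neg_one_pow, one_mul]
  have hconst : ∀ g ∈ (P : Subgroup G), g ≠ 1 → (χ₁ : G → ℂ) g = δ₁ := by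
    intro g hg h1
    by_cases hgc : g ∈ Subgroup.zpowers σ
    · rw [mem_zpowers_iff_mem_range_orderOf, Finset.mem_image] at hgc
      obtain ⟨l, hl, rfl⟩ := hgc
      rw [Finset.mem_range, hD.oc] at hl
      exact (hval l (Nat.pos_of_ne_zero fun h0 => h1 (by rw [h0, pow_zero])) hl).1
    · obtain ⟨i, rfl⟩ := hD.out_form hg hgc
      obtain ⟨c, hc⟩ := isConj_iff.1 (hone (σ ^ h) (σ ^ i * τ) hD.z_order (hD.orderOf_out i))
      rw [← hc, IsIrr.isClassFunction χ₁.2]
      exact (hval h (by omega) (by omega)).1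
  obtain ⟨hne1, -⟩ := dihedral_order_formula hD hh hM
    ⟨hone _ _ hD.z_order hD.os, hone _ _ hD.z_order (by simpa using hD.orderOf_out 1)⟩ χ₁
    ((hB χ₁).2 (Or.inr (Or.inl rfl))) hne.1 δ₁ hδ₁ (fun l a b => (hval l a b).1)
  set x := charDegree (χ₁ : G → ℂ) with hxdef
  have hx : (χ₁ : G → ℂ) 1 = x := apply_one_eq_charDegree χ₁
  have hx0 : (x : ℂ) ≠ 0 := Nat.cast_ne_zero.2 (charDegree_pos _).ne'
  have hdd : (δ₁ : ℂ) * δ₁ = 1 := by rcases hδ₁ with rfl | rfl <;> simp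
  have hdeg : ∀ j, (χ' j : G → ℂ) 1 = x + δ₁ := fun j => by
    have e := (hρ 1 (by rw [orderOf_one]; exact odd_one)).2 j
    rw [hx] at e
    linear_combination -(δ₁ : ℂ) * e + ((x : ℂ) - (χ' j : G → ℂ) 1) * hdd
  have hxd : (x : ℂ) + δ₁ ≠ 0 := by
    rw [← hdeg ⟨0, by omega⟩, apply_one_eq_charDegree]
    exact Nat.cast_ne_zero.2 (charDegree_pos _).ne'
  refine ⟨x, δ₁, hδ₁, charDegree_pos _, hne1, hxd, ?_, ?_⟩
  · rw [← card_dihedral hD hh]; exact H35.GW.card_dvd_sub χ₁ δ₁ hconst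
  have hval1 := hval 1 one_pos (by omega)
  rw [pow_one] at hval1
  have hvalh := hval h (by omega) (by omega)
  have hs : ∀ l, 0 < l → l < 2 * h →
      ∑ j : Fin (h - 1), (ζ ^ (((j : ℕ) + 1) * l) + (ζ ^ (((j : ℕ) + 1) * l))⁻¹) = -1 - (-1) ^ l := by
    intro l hl hl2
    obtain ⟨k, rfl⟩ : ∃ k, h = k + 1 := ⟨h - 1, by omega⟩
    have e := sum_cycWt (by omega) hζ hl hl2
    rw [Fin.sum_univ_castSucc, cycWt, if_pos (by simp)] at e
    have e' : ∀ j : Fin k, cycWt ζ (k + 1) j.castSucc l =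
        ζ ^ (((j : ℕ) + 1) * l) + (ζ ^ (((j : ℕ) + 1) * l))⁻¹ := fun j => by
      rw [cycWt, if_neg (by simp; omega)]; simp
    simp only [e'] at e
    show ∑ j : Fin k, _ = _
    linear_combination e
  have hsum : ∑ j : Fin (h - 1), ((ζ ^ (((j : ℕ) + 1) * 1) + (ζ ^ (((j : ℕ) + 1) * 1))⁻¹) +
      (ζ ^ (((j : ℕ) + 1) * h) + (ζ ^ (((j : ℕ) + 1) * h))⁻¹)) = -2 := by
    rw [Finset.sum_add_distrib, hs 1 one_pos (by omega), hs h (by omega) (by omega),
      (even_of_dGen hD hh).neg_one_pow]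
    norm_num
  have hζh : ζ ^ h = -1 := by
    have h2 : ζ ^ h * ζ ^ h = 1 := by rw [← pow_add, ← two_mul, hζ.pow_eq_one]
    exact (mul_self_eq_one_iff.1 h2).resolve_left (hζ.pow_ne_one_of_pos_of_lt (by omega) (by omega))
  have hterm : ∀ j : Fin (h - 1),
      conj ((χ' j : G → ℂ) (σ ^ h)) * conj ((χ' j : G → ℂ) (σ ^ h)) * (χ' j : G → ℂ) σ /
          (χ' j : G → ℂ) 1 +
        conj ((χ' j : G → ℂ) (σ ^ h)) * conj ((χ' j : G → ℂ) (σ ^ h)) * (χ' j : G → ℂ) (σ ^ h) /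
          (χ' j : G → ℂ) 1 =
      4 * δ₁ / ((x : ℂ) + δ₁) * ((ζ ^ (((j : ℕ) + 1) * 1) + (ζ ^ (((j : ℕ) + 1) * 1))⁻¹) +
        (ζ ^ (((j : ℕ) + 1) * h) + (ζ ^ (((j : ℕ) + 1) * h))⁻¹)) := by
    intro j
    rw [hdeg, hval1.2.2.2 j, hvalh.2.2.2 j, mul_comm ((j : ℕ) + 1) h, pow_mul ζ h, hζh]
    rcases neg_one_pow_eq_or ℂ ((j : ℕ) + 1) with e | e <;> rw [e] <;>
      rcases hδ₁ with rfl | rfl <;> push_cast <;> simp <;> field_simp <;> ring
  rw [← finsum_mem_add_distrib (Set.toFinite _), sum_block_eq hinj hne hχ' hB,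
    Finset.sum_congr rfl fun j _ => hterm j, ← Finset.mul_sum, hsum]
  have t1 : ((trivialIrr (G := G)) : G → ℂ) = fun _ => 1 := rfl
  have e2 : (δ₂ : ℂ) * δ₂ = 1 := by rcases hδ₂ with rfl | rfl <;> simp
  have e3 : (δ₃ : ℂ) * δ₃ = 1 := by rcases hδ₃ with rfl | rfl <;> simp
  simp only [t1, hval1.1, hval1.2.1, hval1.2.2.1, hvalh.1, hvalh.2.1, hvalh.2.2.1, hh1, hx,
    map_one, map_mul, map_neg, map_intCast, one_mul, mul_one, div_one]
  norm_num
  rcases hδ₁ with rfl | rfl <;> push_cast at hxd ⊢ <;> field_simp <;> ring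

open scoped Classical in
/-- **The block of a stable linear character.**  It needs `|P| = 8`, and then it has a character
of degree `6` which is `± 2 ψ` on the section of the involution. -/
theorem LinDatum.degree_six (hd : LinDatum (σ ^ h) ψ) (hD : DGen (P : Subgroup G) h σ τ)
    (hh : 2 ≤ h) (hnt : ∃ y, y * σ ^ h = σ ^ h * y ∧ Odd (orderOf y) ∧ ψ y ≠ 1)
    (hlin : ∀ χ : IrrCharacter G, charDegree (χ : G → ℂ) = 1 → χ = trivialIrr) :
    h = 2 ∧ ∃ (χ : IrrCharacter G) (b : ℤ), (b = 1 ∨ b = -1) ∧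
      charDegree (χ : G → ℂ) = 6 ∧
      ∀ y, y * σ ^ h = σ ^ h * y → Odd (orderOf y) → (χ : G → ℂ) (σ ^ h * y) = 2 * b * ψ y := by
  haveI : Fact (Nat.Prime 2) := ⟨Nat.prime_two⟩
  haveI : NeZero (2 * h) := ⟨by omega⟩
  have hone : ∀ a b : G, orderOf a = 2 → orderOf b = 2 → IsConj a b := fun a b ha hb =>
    (hd.oneClass a ha).symm.trans (hd.oneClass b hb)
  obtain ⟨M, hM⟩ := exists_isPModular (p := 2) Nat.prime_two
  obtain ⟨x, δ, hδ, hx, hxne, hxd, hxdvd, hprin⟩ := principal_count hD hh hone hM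
  have hJ2 : ∃ k, orderOf (σ ^ h) = 2 ^ k := ⟨1, by rw [hD.z_order, pow_one]⟩
  have hJ1 : σ ^ h ≠ 1 := ne_one_of_orderOf_eq_two hD.z_order
  have hσ2 : ∃ k, orderOf σ = 2 ^ k := by
    obtain ⟨k, hk⟩ := IsPGroup.iff_orderOf.1 P.isPGroup' ⟨σ, hD.mem_c⟩
    exact ⟨k, (Subgroup.orderOf_coe ⟨σ, _⟩).trans hk⟩
  have hσ1 : σ ≠ 1 := fun e => by
    have := hD.oc; rw [e, orderOf_one] at this; omega
  have hζ := Complex.isPrimitiveRoot_exp (2 * h) (by omega)
  set ζ : ℂ := Complex.exp (2 * Real.pi * Complex.I / ((2 * h : ℕ) : ℂ)) with hζdef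
  let ψ' : AddChar (ZMod (2 * h)) ℂ := AddChar.zmodChar (2 * h) hζ.pow_eq_one
  have hψ : ψ'.IsPrimitive := AddChar.zmodChar_primitive_of_primitive_root (2 * h) hζ
  have hψnat : ∀ k : ℕ, ψ' (k : ZMod (2 * h)) = ζ ^ k := fun k =>
    AddChar.zmodChar_apply' hζ.pow_eq_one k
  choose c hc using fun (χ : IrrCharacter G) => dCoef_int hD (ψ := ψ') χ
  let A : Fin h → IrrCharacter G → ℤ := fun i χ => c χ ((i.1 + 1 : ℕ) : ZMod (2 * h))
  let i₀ : Fin h := ⟨h - 1, by omega⟩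
  have hi₀ : ∀ i : Fin h, i.1 + 1 = h ↔ i = i₀ := fun i => by
    rw [Fin.ext_iff]; show _ ↔ i.1 = h - 1; omega
  have hA : ∀ i χ, (A i χ : ℂ) = dCoef σ ψ' (χ : G → ℂ) ((i.1 + 1 : ℕ) : ZMod (2 * h)) :=
    fun i χ => (hc χ _).symm
  let F : Finset (IrrCharacter G) := Finset.univ.filter fun χ => InLin M (σ ^ h) ψ χ
  have hmemF : ∀ χ, χ ∈ F ↔ InLin M (σ ^ h) ψ χ := fun χ => by simp [F]
  have hF : ∀ f : IrrCharacter G → ℂ,
      ∑ χ ∈ F, f χ = ∑ χ : IrrCharacter G, if InLin M (σ ^ h) ψ χ then f χ else 0 := fun f => by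
    rw [Finset.sum_filter]
  have hji : ∀ i : Fin h, ((i.1 + 1 : ℕ) : ZMod (2 * h)) ≠ 0 := fun i e => by
    have := natCast_zmod_inj (m := 2 * h) (a := i.1 + 1) (b := 0) (by omega) (by omega)
      (by simpa using e)
    omega
  have hpow1 : ∀ a : ZMod (2 * h), a ≠ 0 → dPow σ a ≠ 1 := fun a ha e =>
    ha (dPow_injective hD.oc (e.trans (dPow_zero σ).symm))
  -- the Gram matrix
  have hgram : ∀ i k, ∑ χ ∈ F, A i χ * A k χ =
      2 + (if i = k then (if i = i₀ then 2 else 1) else 0) := by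
    intro i k
    have hg := gram_dCoef hD hψ hM hh (hji i) (hji k)
    rw [finsum_mem_eq_sum_ite] at hg
    rw [sum_dCoef_mul σ ψ' (fun χ => χ ∈ principalBlock M G)] at hg
    have hF2 := sum_dCoef_mul σ ψ' (InLin M (σ ^ h) ψ)
      ((i.1 + 1 : ℕ) : ZMod (2 * h)) ((k.1 + 1 : ℕ) : ZMod (2 * h))
    rw [← hF] at hF2
    have hkey : ∑ χ ∈ F, (A i χ : ℂ) * (A k χ : ℂ) =
        2 + (if ((i.1 + 1 : ℕ) : ZMod (2 * h)) = ((k.1 + 1 : ℕ) : ZMod (2 * h)) then 1 else 0) +
          (if ((i.1 + 1 : ℕ) : ZMod (2 * h)) = -((k.1 + 1 : ℕ) : ZMod (2 * h)) then 1 else 0) := by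
      simp only [← hA, map_intCast] at hF2
      rw [hF2, ← hg]
      congr 1
      refine Finset.sum_congr rfl fun a _ => Finset.sum_congr rfl fun b _ => ?_
      by_cases ha : a = 0
      · simp [ha]
      congr 1
      rw [hd.kernel_two hD hM (dPow_two_element hD a) (hpow1 a ha) (dPow_two_element hD b),
        blockKernel, finsum_mem_eq_sum_ite]
    have e1 : ((i.1 + 1 : ℕ) : ZMod (2 * h)) = ((k.1 + 1 : ℕ) : ZMod (2 * h)) ↔ i = k := by
      refine ⟨fun e => Fin.ext ?_, fun e => by rw [e]⟩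
      have := natCast_zmod_inj (by omega) (by omega) e
      omega
    have e2 : ((i.1 + 1 : ℕ) : ZMod (2 * h)) = -((k.1 + 1 : ℕ) : ZMod (2 * h)) ↔ i = k ∧ i = i₀ := by
      rw [eq_neg_iff_add_eq_zero, ← Nat.cast_add, ZMod.natCast_eq_zero_iff]
      constructor
      · rintro ⟨q, hq⟩
        have hq1 : q = 1 := by
          rcases q with _ | _ | q
          · omega
          · rfl
          · have : 2 * h * (q + 1 + 1) = 2 * h * q + 4 * h := by ring
            omega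
        rw [hq1, mul_one] at hq
        exact ⟨Fin.ext (by omega), (hi₀ i).1 (by omega)⟩
      · rintro ⟨rfl, hi⟩
        refine ⟨1, ?_⟩
        have := (hi₀ i).2 hi
        omega
    simp only [e1, e2] at hkey
    apply Int.cast_injective (α := ℂ)
    push_cast
    rw [hkey]
    by_cases hik : i = k
    · subst hik; by_cases hi0 : i = i₀ <;> simp [hi0] <;> norm_num
    · simp [hik]
  have hrel : ∀ i, ∑ χ ∈ F, A i χ * (charDegree (χ : G → ℂ) : ℤ) = 0 := by
    intro i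
    apply Int.cast_injective (α := ℂ)
    push_cast
    simp only [hA, dCoef, Finset.mul_sum, Finset.sum_mul]
    rw [Finset.sum_comm]
    refine Finset.sum_eq_zero fun a _ => ?_
    by_cases ha : a = 0
    · simp [ha]
    rw [← mul_zero (((2 * h : ℕ) : ℂ)⁻¹ * (1 - ψ' (((i.1 + 1 : ℕ) : ZMod (2 * h)) * a))),
      ← hd.kernel_one hD hM (dPow_two_element hD a) (hpow1 a ha), ← hF, Finset.mul_sum]
    refine Finset.sum_congr rfl fun χ _ => ?_
    rw [apply_one_eq_charDegree]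
    ring
  -- values, degrees, and the pair count
  have hval : ∀ (χ : IrrCharacter G) (l : ℕ), 0 < l → l < 2 * h →
      (χ : G → ℂ) (σ ^ l) = -∑ i : Fin h, (A i χ : ℂ) * cycWt ζ h i l :=
    fun χ l hl hl2 => apply_pow_eq hD (by omega) hζ hψ hψnat χ (fun i => A i χ) (fun i => hA i χ)
      hl hl2
  have hreal : ∀ (χ : IrrCharacter G) (l : ℕ),
      conj ((χ : G → ℂ) (σ ^ l)) = (χ : G → ℂ) (σ ^ l) := fun χ l => by
    rw [← dPow_natCast hD.oc, conj_irr_dPow hD]
  have hW : ∀ l, 0 < l → l < 2 * h → ∑ i : Fin h, cycWt ζ h i l = -1 := fun l hl hl2 =>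
    sum_cycWt (by omega) hζ hl hl2
  have hWh : (-1 : ℂ) ^ h = 1 := (even_of_dGen hD hh).neg_one_pow
  have hζh : ζ ^ h = -1 := by
    have h2 : ζ ^ h * ζ ^ h = 1 := by rw [← pow_add, ← two_mul, hζ.pow_eq_one]
    exact (mul_self_eq_one_iff.1 h2).resolve_left (hζ.pow_ne_one_of_pos_of_lt (by omega) (by omega))
  let T : IrrCharacter G → ℂ := fun χ => (χ : G → ℂ) (σ ^ h) * (χ : G → ℂ) (σ ^ h) *
    ((χ : G → ℂ) (σ ^ 1) + (χ : G → ℂ) (σ ^ h)) / (charDegree (χ : G → ℂ) : ℂ)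
  have hcount : ∑ χ ∈ F, T χ = 2 * ((x : ℂ) - δ) ^ 2 / ((x : ℂ) * ((x : ℂ) + δ)) := by
    rw [← hprin, ← hd.pair_sum_eq hD hM hσ2 hσ1, ← hd.pair_sum_eq hD hM hJ2 hJ1, ← hF, ← hF,
      ← Finset.sum_add_distrib]
    refine Finset.sum_congr rfl fun χ _ => ?_
    simp only [T, hreal, apply_one_eq_charDegree, pow_one]
    ring
  have hrel' : ∀ (i : Fin h) (S : Finset (IrrCharacter G)), S ⊆ F →
      (∀ χ ∈ F, χ ∉ S → A i χ = 0) → ∑ χ ∈ S, A i χ * (charDegree (χ : G → ℂ) : ℤ) = 0 := by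
    intro i S hS hz
    rw [Finset.sum_subset hS fun χ hχ hn => by rw [hz χ hχ hn, zero_mul]]
    exact hrel i
  have hT0 : ∀ χ, (∀ i, A i χ = 0) → T χ = 0 := fun χ hz => by
    have : (χ : G → ℂ) (σ ^ h) = 0 := by rw [hval χ h (by omega) (by omega)]; simp [hz]
    simp [T, this]
  have hdeg : ∀ χ : IrrCharacter G, (charDegree (χ : G → ℂ) : ℂ) ≠ 0 := fun χ =>
    Nat.cast_ne_zero.2 (charDegree_pos _).ne'
  have hsq : ∀ a : ℤ, a = 1 ∨ a = -1 → (a : ℂ) * a = 1 := by rintro a (rfl | rfl) <;> simp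
  have hd2 := hsq δ hδ
  have hx0 : (x : ℂ) ≠ 0 := Nat.cast_ne_zero.2 hx.ne'
  rcases block_star i₀ (by rw [Fintype.card_fin]; exact even_of_dGen hD hh)
    (by rw [Fintype.card_fin]; exact hh) F A (fun χ => (charDegree (χ : G → ℂ) : ℤ))
    (fun χ _ => by exact_mod_cast charDegree_pos χ) hgram hrel with hps | ⟨hcard, hexc⟩
  · obtain ⟨p, q, r, s, e, hp, hq, hr, hs, he, hpq, hpr, hps', hqr, hqs, hrs, hed, heinj,
      ap, aq, ar, -, hA0, hAe⟩ := hps
    have hAp : ∀ i, A i p = A i₀ p := fun i => by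
      by_cases hi : i = i₀
      · rw [hi]
      · exact (hAe ⟨i, hi⟩).1
    have hAq : ∀ i, A i q = A i₀ q := fun i => by
      by_cases hi : i = i₀
      · rw [hi]
      · exact (hAe ⟨i, hi⟩).2.1
    have hvc : ∀ χ, (∀ i, A i χ = A i₀ χ) → ∀ l, 0 < l → l < 2 * h →
        (χ : G → ℂ) (σ ^ l) = A i₀ χ := fun χ hall l hl hl2 => by
      rw [hval χ l hl hl2, Finset.sum_congr rfl fun i _ => by rw [hall i], ← Finset.mul_sum,
        hW l hl hl2]
      ring
    have hvr : ∀ χ ∈ F, χ ≠ p → χ ≠ q → (∀ i, χ ≠ e i) → T χ = 0 := by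
      intro χ hχ hnp hnq hne
      have hz : ∀ i : Fin h, i ≠ i₀ → A i χ = 0 := fun i hi =>
        (hAe ⟨i, hi⟩).2.2.2 χ hχ hnp hnq (hne _)
      have hv : ∀ l, 0 < l → l < 2 * h → (χ : G → ℂ) (σ ^ l) = -((A i₀ χ : ℂ) * (-1) ^ l) :=
        fun l hl hl2 => by
          rw [hval χ l hl hl2, Finset.sum_eq_single i₀ (fun i _ hi => by simp [hz i hi])
            (fun hn => absurd (Finset.mem_univ _) hn), cycWt, if_pos ((hi₀ _).2 rfl)]
      simp only [T, hv h (by omega) (by omega), hv 1 one_pos (by omega), hWh]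
      simp
    have hve : ∀ (i : {i : Fin h // i ≠ i₀}) (l : ℕ), 0 < l → l < 2 * h →
        (e i : G → ℂ) (σ ^ l) = -((A i (e i) : ℂ) * cycWt ζ h i l) := by
      intro i l hl hl2
      rw [hval _ l hl hl2, Finset.sum_eq_single i.1 (fun k _ hk => ?_)
        (fun hn => absurd (Finset.mem_univ _) hn)]
      by_cases hk0 : k = i₀
      · obtain ⟨e1, e2, e3, e4⟩ := hed i
        rw [hk0, hA0 _ (he i) e1 e2 e3 e4]; simp
      · rw [(hAe ⟨k, hk0⟩).2.2.2 _ (he i) (hed i).1 (hed i).2.1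
          fun e' => hk (congrArg Subtype.val (heinj e')).symm]
        simp
    have hWi : ∀ i : {i : Fin h // i ≠ i₀},
        cycWt ζ h i.1 h = 2 * (-1 : ℂ) ^ (i.1.1 + 1) := fun i => by
      rw [cycWt, if_neg (fun e' => i.2 ((hi₀ _).1 e')), mul_comm (i.1.1 + 1) h, pow_mul, hζh]
      rcases neg_one_pow_eq_or ℂ (i.1.1 + 1) with e' | e' <;> rw [e'] <;> norm_num
    set X₀ : ℤ := A i₀ p * (charDegree (p : G → ℂ) : ℤ) with hX₀
    set X₁ : ℤ := A i₀ q * (charDegree (q : G → ℂ) : ℤ) with hX₁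
    have hrelZ : ∀ i : {i : Fin h // i ≠ i₀},
        A i (e i) * (charDegree (e i : G → ℂ) : ℤ) = -(X₀ + X₁) := by
      intro i
      have hr' := hrel' i.1 {p, q, e i} (by simp [Finset.insert_subset_iff, hp, hq, he i])
        fun χ hχ hn => by
          simp only [Finset.mem_insert, Finset.mem_singleton, not_or] at hn
          exact (hAe i).2.2.2 χ hχ hn.1 hn.2.1 hn.2.2
      rw [Finset.sum_insert (by simp [hpq, (hed i).1.symm]),
        Finset.sum_pair (hed i).2.1.symm, (hAe i).1, (hAe i).2.1] at hr'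
      rw [hX₀, hX₁]; linarith
    obtain ⟨i₁, hi₁⟩ : ∃ i : Fin h, i ≠ i₀ := ⟨⟨0, by omega⟩, fun e' => by
      have := congrArg Fin.val e'; simp [i₀] at this; omega⟩
    have hZ : X₀ + X₁ ≠ 0 := by
      intro e0
      have := hrelZ ⟨i₁, hi₁⟩
      rw [e0, neg_zero] at this
      have hp' := charDegree_pos (e ⟨i₁, hi₁⟩)
      rcases (hAe ⟨i₁, hi₁⟩).2.2.1 with e' | e' <;> rw [e'] at this <;> omega
    have hTc : ∀ χ, (∀ i, A i χ = A i₀ χ) → (A i₀ χ = 1 ∨ A i₀ χ = -1) →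
        T χ = 2 / ((A i₀ χ * (charDegree (χ : G → ℂ) : ℤ) : ℤ) : ℂ) := fun χ hall ha => by
      simp only [T, hvc χ hall h (by omega) (by omega), hvc χ hall 1 one_pos (by omega)]
      rcases ha with e' | e' <;> rw [e'] <;> push_cast <;> ring
    have hTe : ∀ i : {i : Fin h // i ≠ i₀}, T (e i) =
        4 / ((X₀ + X₁ : ℤ) : ℂ) * (cycWt ζ h i.1 1 + cycWt ζ h i.1 h) := fun i => by
      have hb : (X₀ + X₁ : ℤ) = -(A i (e i) * (charDegree (e i : G → ℂ) : ℤ)) := by
        rw [hrelZ i, neg_neg]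
      simp only [T, hve i h (by omega) (by omega), hve i 1 one_pos (by omega), hb, hWi i]
      rcases (hAe i).2.2.1 with e' | e' <;> rw [e'] <;>
        rcases neg_one_pow_eq_or ℂ (i.1.1 + 1) with e2 | e2 <;> rw [e2] <;> push_cast <;> ring
    have hsumW : ∑ i : {i : Fin h // i ≠ i₀}, (cycWt ζ h i.1 1 + cycWt ζ h i.1 h) = -2 := by
      have hfull : ∑ i : Fin h, (cycWt ζ h i 1 + cycWt ζ h i h) = -2 := by
        rw [Finset.sum_add_distrib, hW 1 one_pos (by omega), hW h (by omega) (by omega)]; norm_num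
      rw [← Finset.add_sum_erase _ _ (Finset.mem_univ i₀), cycWt, cycWt,
        if_pos ((hi₀ _).2 rfl), if_pos ((hi₀ _).2 rfl), hWh, pow_one] at hfull
      rw [← Finset.sum_subtype (p := fun i : Fin h => i ≠ i₀) (Finset.univ.erase i₀) (by simp)
        (fun i => cycWt ζ h i 1 + cycWt ζ h i h)]
      linear_combination hfull
    have hTsum : ∑ χ ∈ F, T χ = 2 / ((X₀ : ℤ) : ℂ) + 2 / ((X₁ : ℤ) : ℂ) - 8 / ((X₀ + X₁ : ℤ) : ℂ) := by
      have hsub : insert p (insert q (Finset.univ.image e)) ⊆ F := by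
        intro χ hχ
        simp only [Finset.mem_insert, Finset.mem_image, Finset.mem_univ, true_and] at hχ
        rcases hχ with rfl | rfl | ⟨i, rfl⟩
        exacts [hp, hq, he i]
      rw [← Finset.sum_subset hsub fun χ hχ hn => hvr χ hχ
          (fun e' => hn (by simp [e'])) (fun e' => hn (by simp [e']))
          (fun i e' => hn (by simp [e'])),
        Finset.sum_insert (by
          simp only [Finset.mem_insert, Finset.mem_image, Finset.mem_univ, true_and, not_or, not_exists]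
          exact ⟨hpq, fun i => (hed i).1⟩),
        Finset.sum_insert (by
          simp only [Finset.mem_image, Finset.mem_univ, true_and, not_exists]
          exact fun i => (hed i).2.1),
        Finset.sum_image fun a _ b _ e' => heinj e', Finset.sum_congr rfl fun i _ => hTe i,
        ← Finset.mul_sum, hsumW, hTc p hAp ap, hTc q hAq aq]
      rw [hX₀, hX₁]; ring
    rw [hTsum] at hcount
    -- congruences
    have hcong : ∀ χ, χ ∈ F → (∀ i, A i χ = A i₀ χ) → (A i₀ χ = 1 ∨ A i₀ χ = -1) →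
        ((4 * h : ℕ) : ℤ) ∣ A i₀ χ * (charDegree (χ : G → ℂ) : ℤ) - 1 ∧
          A i₀ χ * (charDegree (χ : G → ℂ) : ℤ) ≠ 1 := by
      intro χ hχ hall ha
      refine ⟨?_, fun e1 => ?_⟩
      · have hdv : ((4 * h : ℕ) : ℤ) ∣ (charDegree (χ : G → ℂ) : ℤ) - A i₀ χ := by
          rw [← card_dihedral hD hh]
          refine H35.GW.card_dvd_sub χ _ fun g hg h1 => ?_
          by_cases hgc : g ∈ Subgroup.zpowers σ
          · rw [mem_zpowers_iff_mem_range_orderOf, Finset.mem_image] at hgc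
            obtain ⟨l, hl, rfl⟩ := hgc
            rw [Finset.mem_range, hD.oc] at hl
            exact hvc χ hall l (Nat.pos_of_ne_zero fun h0 => h1 (by rw [h0, pow_zero])) hl
          · obtain ⟨i, rfl⟩ := hD.out_form hg hgc
            obtain ⟨c', hc'⟩ := isConj_iff.1 (hone (σ ^ h) (σ ^ i * τ) hD.z_order (hD.orderOf_out i))
            rw [← hc', IsIrr.isClassFunction χ.2]
            exact hvc χ hall h (by omega) (by omega)
        rcases ha with e' | e' <;> rw [e'] at hdv ⊢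
        · simpa using hdv
        · have := dvd_neg.2 hdv
          rwa [show -((charDegree (χ : G → ℂ) : ℤ) - -1) = -1 * (charDegree (χ : G → ℂ) : ℤ) - 1 by
            ring] at this
      · have h1 : charDegree (χ : G → ℂ) = 1 := by
          have := Int.natAbs_of_nonneg (Int.natCast_nonneg (charDegree (χ : G → ℂ)))
          rcases ha with e' | e' <;> rw [e'] at e1 <;> omega
        have ht := hlin χ h1
        obtain ⟨y, hy, hyo, hy1⟩ := hnt
        have hsec := (hd.sum_section hD hM hJ2 hJ1 χ).1 ((hmemF χ).1 hχ) y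
          (mem_regCentral.2 ⟨hy.symm, hyo⟩)
        rw [hd.toStableDatum.ext_eq_self hyo hy, ht] at hsec
        exact hy1 (by simpa [trivialIrr] using hsec.symm)
    obtain ⟨c0, n0⟩ := hcong p hp hAp ap
    obtain ⟨c1, n1⟩ := hcong q hq hAq aq
    rw [← hX₀] at c0 n0
    rw [← hX₁] at c1 n1
    obtain ⟨n, hn⟩ := IsPGroup.iff_card.1 P.isPGroup'
    rw [card_dihedral hD hh] at hn
    have hn3 : 3 ≤ n := by
      by_contra hlt
      have : 2 ^ n ≤ 2 ^ 2 := Nat.pow_le_pow_right (by norm_num) (by omega)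
      omega
    have hN : ((4 * h : ℕ) : ℤ) = 2 ^ n := by exact_mod_cast hn
    rw [hN] at c0 c1 hxdvd
    have hX₀0 : X₀ ≠ 0 := fun e0 => by
      rw [e0, zero_sub, dvd_neg] at c0
      have := Int.le_of_dvd one_pos c0
      omega
    have hX₁0 : X₁ ≠ 0 := fun e0 => by
      rw [e0, zero_sub, dvd_neg] at c1
      have := Int.le_of_dvd one_pos c1
      omega
    -- the equation over `ℚ`
    have hQ : (2 / (X₀ : ℚ) + 2 / (X₁ : ℚ) - 8 / ((X₀ + X₁ : ℤ) : ℚ)) =
        2 * ((x : ℚ) - δ) ^ 2 / ((x : ℚ) * ((x : ℚ) + δ)) := by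
      apply Rat.cast_injective (α := ℂ)
      push_cast at hcount ⊢
      exact hcount
    have hxq : (x : ℚ) + δ ≠ 0 := fun e0 => hxd (by exact_mod_cast e0)
    have hxp : (0 : ℚ) < x := by exact_mod_cast hx
    obtain ⟨k, hk⟩ := hxdvd
    have hN8 : (8 : ℤ) ≤ 2 ^ n := le_trans (by norm_num) (pow_le_pow_right₀ (by norm_num) hn3)
    have hk1 : 1 ≤ k := by
      by_contra hk0
      have : (2 : ℤ) ^ n * k ≤ 0 := Int.mul_nonpos_of_nonneg_of_nonpos (by omega) (by omega)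
      rcases hδ with rfl | rfl <;> omega
    have hxk : (x : ℚ) = (2 : ℚ) ^ n * k + δ := by
      have : (x : ℤ) = 2 ^ n * k + δ := by omega
      exact_mod_cast congrArg (Int.cast : ℤ → ℚ) this
    have hN8q : (8 : ℚ) ≤ (2 : ℚ) ^ n := by exact_mod_cast hN8
    have hkq : (1 : ℚ) ≤ k := by exact_mod_cast hk1
    have hNk : (0 : ℚ) < (2 : ℚ) ^ n * k := by positivity
    obtain ⟨hn', hX⟩ := linearBlock_degrees (n := n) hn3 (X₀ := X₀) (X₁ := X₁)
      (r := H35.GW.ratio x δ) c0 c1 n0 n1 (by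
        unfold H35.GW.ratio
        rw [hxk, add_sub_cancel_right, lt_div_iff₀ (by positivity)]
        rcases hδ with rfl | rfl <;> push_cast <;> nlinarith [mul_le_mul hN8q hkq (by norm_num)
          (by positivity : (0 : ℚ) ≤ (2 : ℚ) ^ n)]) (by
        unfold H35.GW.ratio
        rw [hxk, add_sub_cancel_right, div_le_div_iff₀ (by positivity) (by positivity)]
        generalize (2 : ℚ) ^ n = N at hN8q hNk
        have q1 : N ≤ N * k := le_mul_of_one_le_right (by linarith) hkq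
        rcases hδ with rfl | rfl <;> push_cast
        · nlinarith [mul_nonneg (mul_nonneg (show (0 : ℚ) ≤ N by linarith) hNk.le) (sub_nonneg.2 q1)]
        · nlinarith [mul_nonneg (mul_nonneg (show (0 : ℚ) ≤ N by linarith) hNk.le) (sub_nonneg.2 q1),
            mul_pos hNk hNk])
      hZ (by
        unfold H35.GW.ratio
        rw [one_div_div]
        have hq0 : (X₀ : ℚ) ≠ 0 := by exact_mod_cast hX₀0
        have hq1 : (X₁ : ℚ) ≠ 0 := by exact_mod_cast hX₁0
        have hqZ : (X₀ : ℚ) + X₁ ≠ 0 := by exact_mod_cast hZ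
        push_cast at hQ
        field_simp at hQ ⊢
        linarith)
    subst hn'
    have hh2 : h = 2 := by norm_num at hn; omega
    refine ⟨hh2, e ⟨i₁, hi₁⟩, A i₁ (e ⟨i₁, hi₁⟩), (hAe ⟨i₁, hi₁⟩).2.2.1, ?_, fun y hy hyo => ?_⟩
    · have h6 := hrelZ ⟨i₁, hi₁⟩
      rw [hX] at h6
      rcases (hAe ⟨i₁, hi₁⟩).2.2.1 with e' | e' <;> rw [e'] at h6 <;> omega
    · rw [(hd.sum_section hD hM hJ2 hJ1 _).1 ((hmemF _).1 (he _)) y
        (mem_regCentral.2 ⟨hy.symm, hyo⟩), hd.toStableDatum.ext_eq_self hyo hy,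
        hve ⟨i₁, hi₁⟩ h (by omega) (by omega), hWi]
      have : i₁.1 = 0 := by
        have h1 := i₁.2
        have h2 : i₁.1 ≠ h - 1 := fun e' => hi₁ (Fin.ext e')
        omega
      rw [this]
      ring
  · -- the exceptional shapes
    rw [Fintype.card_fin] at hcard
    subst hcard
    exfalso
    have hne3 : ∀ k : Fin 4, k.1 ≠ 3 → k ≠ i₀ := fun k hk e' => hk (by rw [e'])
    have hz2 : ζ ^ 2 + (ζ ^ 2)⁻¹ = 0 := by
      rw [show (ζ ^ 2)⁻¹ = -ζ ^ 2 from inv_eq_of_mul_eq_one_right (by linear_combination -hζh),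
        add_neg_cancel]
    have hWt : ∀ l, 0 < l → l < 8 → cycWt ζ 4 0 l + cycWt ζ 4 1 l + cycWt ζ 4 2 l = -1 - (-1) ^ l := by
      intro l hl hl2
      have e' := hW l hl (by omega)
      rw [Fin.sum_univ_four, show cycWt ζ 4 3 l = (-1) ^ l by simp [cycWt]] at e'
      linear_combination e'
    have w11 : cycWt ζ 4 1 1 = 0 := by simp [cycWt]; linear_combination hz2
    have w3 : ∀ l, cycWt ζ 4 3 l = (-1) ^ l := fun l => by simp [cycWt]
    have wJ : cycWt ζ 4 0 4 = -2 ∧ cycWt ζ 4 1 4 = 2 ∧ cycWt ζ 4 2 4 = -2 := by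
      refine ⟨?_, ?_, ?_⟩ <;>
        · simp only [cycWt]
          norm_num
          simp [pow_succ, pow_mul, hζh, show ζ ^ 8 = (ζ ^ 4) ^ 2 by ring,
            show ζ ^ 12 = (ζ ^ 4) ^ 3 by ring]
          try norm_num
    have w20 : cycWt ζ 4 2 1 = -cycWt ζ 4 0 1 := by
      have := hWt 1 one_pos (by norm_num)
      rw [w11] at this
      linear_combination this
    have h16 : (16 : ℤ) ∣ (x : ℤ) - δ := by exact_mod_cast hxdvd
    have hv4 : ∀ (χ : IrrCharacter G) (l : ℕ), 0 < l → l < 8 → (χ : G → ℂ) (σ ^ l) = -((A 0 χ : ℂ) * cycWt ζ 4 0 l +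
        (A 1 χ : ℂ) * cycWt ζ 4 1 l + (A 2 χ : ℂ) * cycWt ζ 4 2 l +
        (A 3 χ : ℂ) * cycWt ζ 4 3 l) := fun χ l hl hl2 => by
      rw [hval χ l hl (by omega), Fin.sum_univ_four]
    have hi03 : i₀ = (3 : Fin 4) := rfl
    -- `T χ` in terms of the four coefficients
    have hT4 : ∀ χ : IrrCharacter G, T χ = ((-2 * (A 0 χ : ℂ) + 2 * A 1 χ - 2 * A 2 χ + A 3 χ) ^ 2 *
        -((A 0 χ - A 2 χ : ℂ) * cycWt ζ 4 0 1 - A 3 χ +
          (-2 * (A 0 χ : ℂ) + 2 * A 1 χ - 2 * A 2 χ + A 3 χ))) /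
        (charDegree (χ : G → ℂ) : ℂ) := fun χ => by
      simp only [T, hv4 χ 4 (by norm_num) (by norm_num), hv4 χ 1 one_pos (by norm_num), w11, w20,
        w3, wJ.1, wJ.2.1, wJ.2.2]
      ring
    have hfinal : ∀ a : ℤ, a ≠ 0 → (∑ χ ∈ F, T χ = -32 / (3 * (a : ℂ)) ∨
        ∑ χ ∈ F, T χ = 32 / (a : ℂ)) → False := by
      intro a ha hsum
      have ha' : (a : ℂ) ≠ 0 := Int.cast_ne_zero.2 ha
      rw [hcount] at hsum
      refine exceptional_absurd (a := a) hδ h16 (hsum.imp (fun e' => ?_) fun e' => ?_) <;>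
        · rw [div_eq_div_iff (mul_ne_zero hx0 hxd) (by simp [ha'])] at e'
          apply Int.cast_injective (α := ℂ)
          push_cast
          linear_combination (1 / 2 : ℂ) * e'
    rcases hexc 0 1 2 (hne3 _ (by decide)) (hne3 _ (by decide)) (hne3 _ (by decide)) (by decide)
      (by decide) (by decide) with hpt | htr
    · obtain ⟨p, a, b, c', e, hp, ha, hb, hc', he, hnd, ap, aa, ab, ac, hA0, ae, he2, he3, hp1, hp2,
        hp3, ha1, hb2, hc3, hz1, hz2', hz3⟩ := hpt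
      rw [hi03] at ap aa ab ac hA0 hp1 hp2 hp3 ha1 hb2 hc3
      simp only [List.nodup_cons, List.mem_cons, List.not_mem_nil, or_false, not_or,
        List.nodup_nil, and_true, not_false_eq_true] at hnd
      obtain ⟨⟨hpa, hpb, hpc, hpe⟩, ⟨hab, hac, hae⟩, ⟨hbc, hbe⟩, hce⟩ := hnd
      have r0 := hrel' 3 {p, a, b, c'} (by simp [Finset.insert_subset_iff, hp, ha, hb, hc'])
        fun χ hχ hn => by
          simp only [Finset.mem_insert, Finset.mem_singleton, not_or] at hn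
          exact hA0 χ hχ hn.1 hn.2.1 hn.2.2.1 hn.2.2.2
      have r1 := hrel' 0 {p, a, e} (by simp [Finset.insert_subset_iff, hp, ha, he])
        fun χ hχ hn => by
          simp only [Finset.mem_insert, Finset.mem_singleton, not_or] at hn
          exact hz1 χ hχ hn.1 hn.2.1 hn.2.2
      have r2 := hrel' 1 {p, b, e} (by simp [Finset.insert_subset_iff, hp, hb, he])
        fun χ hχ hn => by
          simp only [Finset.mem_insert, Finset.mem_singleton, not_or] at hn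
          exact hz2' χ hχ hn.1 hn.2.1 hn.2.2
      have r3 := hrel' 2 {p, c', e} (by simp [Finset.insert_subset_iff, hp, hc', he])
        fun χ hχ hn => by
          simp only [Finset.mem_insert, Finset.mem_singleton, not_or] at hn
          exact hz3 χ hχ hn.1 hn.2.1 hn.2.2
      rw [Finset.sum_insert (by simp [hpa, hpb, hpc]), Finset.sum_insert (by simp [hab, hac]),
        Finset.sum_pair hbc] at r0
      rw [Finset.sum_insert (by simp [hpa, hpe]), Finset.sum_pair hae, hp1, ha1] at r1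
      rw [Finset.sum_insert (by simp [hpb, hpe]), Finset.sum_pair hbe, hp2, hb2, he2] at r2
      rw [Finset.sum_insert (by simp [hpc, hpe]), Finset.sum_pair hce, hp3, hc3, he3] at r3
      have hA3e : A 3 e = 0 := hA0 e he (Ne.symm hpe) (Ne.symm hae) (Ne.symm hbe) (Ne.symm hce)
      have z1b := hz1 b hb (Ne.symm hpb) (Ne.symm hab) hbe
      have z1c := hz1 c' hc' (Ne.symm hpc) (Ne.symm hac) hce
      have z2a := hz2' a ha (Ne.symm hpa) hab hae
      have z2c := hz2' c' hc' (Ne.symm hpc) (Ne.symm hbc) hce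
      have z3a := hz3 a ha (Ne.symm hpa) hac hae
      have z3b := hz3 b hb (Ne.symm hpb) hbc hbe
      set n : ℤ := A 3 a * (charDegree (a : G → ℂ) : ℤ) with hn
      have hn0 : n ≠ 0 := by
        have := charDegree_pos a
        rcases aa with e' | e' <;> rw [hn, e'] <;> omega
      refine hfinal n hn0 (Or.inl ?_)
      rw [← Finset.sum_subset (s₁ := {p, a, b, c', e})
        (by simp [Finset.insert_subset_iff, hp, ha, hb, hc', he]) fun χ hχ hn => by
          simp only [Finset.mem_insert, Finset.mem_singleton, not_or] at hn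
          refine hT0 χ fun i => ?_
          fin_cases i
          · exact hz1 χ hχ hn.1 hn.2.1 hn.2.2.2.2
          · exact hz2' χ hχ hn.1 hn.2.2.1 hn.2.2.2.2
          · exact hz3 χ hχ hn.1 hn.2.2.2.1 hn.2.2.2.2
          · exact hA0 χ hχ hn.1 hn.2.1 hn.2.2.1 hn.2.2.2.1,
        Finset.sum_insert (by simp [hpa, hpb, hpc, hpe]), Finset.sum_insert (by simp [hab, hac, hae]),
        Finset.sum_insert (by simp [hbc, hbe]), Finset.sum_pair hce]
      have tp : T p = 2 / ((A 3 p * (charDegree (p : G → ℂ) : ℤ) : ℤ) : ℂ) := by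
        rw [hT4, hp1, hp2, hp3]
        rcases ap with e' | e' <;> rw [e'] <;> push_cast <;> ring
      have ta : T a = (2 - cycWt ζ 4 0 1) / ((A 3 a * (charDegree (a : G → ℂ) : ℤ) : ℤ) : ℂ) := by
        rw [hT4, ha1, z2a, z3a]
        rcases aa with e' | e' <;> rw [e'] <;> push_cast <;> ring
      have tb : T b = -18 / ((A 3 b * (charDegree (b : G → ℂ) : ℤ) : ℤ) : ℂ) := by
        rw [hT4, hb2, z1b, z3b]
        rcases ab with e' | e' <;> rw [e'] <;> push_cast <;> ring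
      have tc : T c' = (2 + cycWt ζ 4 0 1) / ((A 3 c' * (charDegree (c' : G → ℂ) : ℤ) : ℤ) : ℂ) := by
        rw [hT4, hc3, z1c, z2c]
        rcases ac with e' | e' <;> rw [e'] <;> push_cast <;> ring
      have te : T e = 8 / ((A 0 e * (charDegree (e : G → ℂ) : ℤ) : ℤ) : ℂ) := by
        rw [hT4, he2, he3, hA3e]
        rcases ae with e' | e' <;> rw [e'] <;> push_cast <;> ring
      rw [tp, ta, tb, tc, te, ← hn, show A 3 p * (charDegree (p : G → ℂ) : ℤ) = -3 * n by linarith,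
        show A 3 b * (charDegree (b : G → ℂ) : ℤ) = n by linarith,
        show A 3 c' * (charDegree (c' : G → ℂ) : ℤ) = n by linarith,
        show A 0 e * (charDegree (e : G → ℂ) : ℤ) = 2 * n by linarith]
      have : (n : ℂ) ≠ 0 := Int.cast_ne_zero.2 hn0
      push_cast
      field_simp
      ring
    · obtain ⟨a, b, c', s, e, ha, hb, hc', hs, he, hnd, aa, ab, ac, as', hA0, ae, he2, he3, hb1, hc1,
        ha2, hc2, ha3, hb3, hz1, hz2', hz3⟩ := htr
      rw [hi03] at aa ab ac as' hA0 hb1 hc1 ha2 hc2 ha3 hb3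
      simp only [List.nodup_cons, List.mem_cons, List.not_mem_nil, or_false, not_or,
        List.nodup_nil, and_true, not_false_eq_true] at hnd
      obtain ⟨⟨hab, hac, has, hae⟩, ⟨hbc, hbs, hbe⟩, ⟨hcs, hce⟩, hse⟩ := hnd
      have r1 := hrel' 0 {b, c', e} (by simp [Finset.insert_subset_iff, hb, hc', he])
        fun χ hχ hn => by
          simp only [Finset.mem_insert, Finset.mem_singleton, not_or] at hn
          exact hz1 χ hχ hn.1 hn.2.1 hn.2.2
      have r2 := hrel' 1 {a, c', e} (by simp [Finset.insert_subset_iff, ha, hc', he])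
        fun χ hχ hn => by
          simp only [Finset.mem_insert, Finset.mem_singleton, not_or] at hn
          exact hz2' χ hχ hn.1 hn.2.1 hn.2.2
      have r3 := hrel' 2 {a, b, e} (by simp [Finset.insert_subset_iff, ha, hb, he])
        fun χ hχ hn => by
          simp only [Finset.mem_insert, Finset.mem_singleton, not_or] at hn
          exact hz3 χ hχ hn.1 hn.2.1 hn.2.2
      rw [Finset.sum_insert (by simp [hbc, hbe]), Finset.sum_pair hce, hb1, hc1] at r1
      rw [Finset.sum_insert (by simp [hac, hae]), Finset.sum_pair hce, ha2, hc2, he2] at r2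
      rw [Finset.sum_insert (by simp [hab, hae]), Finset.sum_pair hbe, ha3, hb3, he3] at r3
      have hA3e : A 3 e = 0 := hA0 e he (Ne.symm hae) (Ne.symm hbe) (Ne.symm hce) (Ne.symm hse)
      have z1a := hz1 a ha hab hac hae
      have z2b := hz2' b hb (Ne.symm hab) hbc hbe
      have z3c := hz3 c' hc' (Ne.symm hac) (Ne.symm hbc) hce
      have z1s := hz1 s hs (Ne.symm hbs) (Ne.symm hcs) hse
      have z2s := hz2' s hs (Ne.symm has) (Ne.symm hcs) hse
      have z3s := hz3 s hs (Ne.symm has) (Ne.symm hbs) hse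
      set n : ℤ := A 3 a * (charDegree (a : G → ℂ) : ℤ) with hn
      have hn0 : n ≠ 0 := by
        have := charDegree_pos a
        rcases aa with e' | e' <;> rw [hn, e'] <;> omega
      refine hfinal n hn0 (Or.inr ?_)
      rw [← Finset.sum_subset (s₁ := {a, b, c', s, e})
        (by simp [Finset.insert_subset_iff, ha, hb, hc', hs, he]) fun χ hχ hn => by
          simp only [Finset.mem_insert, Finset.mem_singleton, not_or] at hn
          refine hT0 χ fun i => ?_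
          fin_cases i
          · exact hz1 χ hχ hn.2.1 hn.2.2.1 hn.2.2.2.2
          · exact hz2' χ hχ hn.1 hn.2.2.1 hn.2.2.2.2
          · exact hz3 χ hχ hn.1 hn.2.1 hn.2.2.2.2
          · exact hA0 χ hχ hn.1 hn.2.1 hn.2.2.1 hn.2.2.2.1,
        Finset.sum_insert (by simp [hab, hac, has, hae]), Finset.sum_insert (by simp [hbc, hbs, hbe]),
        Finset.sum_insert (by simp [hcs, hce]), Finset.sum_pair hse]
      have ta : T a = cycWt ζ 4 0 1 / ((A 3 a * (charDegree (a : G → ℂ) : ℤ) : ℤ) : ℂ) := by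
        rw [hT4, ha2, ha3, z1a]
        rcases aa with e' | e' <;> rw [e'] <;> push_cast <;> ring
      have tb : T b = 36 / ((A 3 b * (charDegree (b : G → ℂ) : ℤ) : ℤ) : ℂ) := by
        rw [hT4, hb1, hb3, z2b]
        rcases ab with e' | e' <;> rw [e'] <;> push_cast <;> ring
      have tc : T c' = -cycWt ζ 4 0 1 / ((A 3 c' * (charDegree (c' : G → ℂ) : ℤ) : ℤ) : ℂ) := by
        rw [hT4, hc1, hc2, z3c]
        rcases ac with e' | e' <;> rw [e'] <;> push_cast <;> ring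
      have ts : T s = 0 := by
        rw [hT4, z1s, z2s, z3s]; simp
      have te : T e = 8 / ((A 0 e * (charDegree (e : G → ℂ) : ℤ) : ℤ) : ℂ) := by
        rw [hT4, he2, he3, hA3e]
        rcases ae with e' | e' <;> rw [e'] <;> push_cast <;> ring
      rw [ta, tb, tc, ts, te, ← hn, show A 3 b * (charDegree (b : G → ℂ) : ℤ) = n by linarith,
        show A 3 c' * (charDegree (c' : G → ℂ) : ℤ) = n by linarith,
        show A 0 e * (charDegree (e : G → ℂ) : ℤ) = -2 * n by linarith]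
      have : (n : ℂ) ≠ 0 := Int.cast_ne_zero.2 hn0
      push_cast
      field_simp
      ring

end Cfsg.Agent.H15.GW
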