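import Cfsg.Agent.Cores.SecondMain
import Cfsg.Agent.Cores.ThirdMain

/-!
# Sections in the block of a fusion-stable linear character

Let `x` be a `p`-element, `O` a normal `p'`-subgroup of `C(x)` containing every `p`-regular
element of `C(x)`, and `Z` a class function on `G`, zero on `p`-singular elements, with
`Z|O = conj lam` for an invariant linear character `lam` of `O`.  Then an irreducible character
`χ` either is `χ x · lam` on the section `x O`, or is orthogonal to `lam` there, according to
whether the central character of `χ` at `Σ Z g • g` is outside the local ideal or inside it.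
This replaces the uniqueness of the subsection (Brauer pairs) in step 7 of the dihedral theorem.
-/

open scoped ComplexConjugate

set_option linter.style.haveILetI false

namespace Cfsg.Agent.H15.GW

open MonoidAlgebra BlockBasic CharBasic Cores

universe u

variable {G : Type u} [Group G] [Finite G] {p : ℕ} {M : Ideal AlgInt}

/-- The central element of a linear character of a normal subgroup. -/
theorem omega_linear_cases {K : Type u} [Group K] [Fintype K] (N : Subgroup K) [Fintype N]
    {f : K → ℂ} (hf : IsClassFunction K f) (hout : ∀ k, k ∉ N → f k = 0)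
    (hmul : ∀ a b : K, a ∈ N → b ∈ N → f (a * b) = f a * f b) (h1 : f 1 = 1)
    {ξ : K → ℂ} (hξ : IsIrrCharacter K ξ) :
    omega ξ (ofFun fun k => conj (f k)) = 0 ∨
      (omega ξ (ofFun fun k => conj (f k)) = (Nat.card N : ℂ) ∧
        ∀ y ∈ N, ξ y = f y * ξ 1) := by
  classical
  set e : MonoidAlgebra ℂ K := ofFun fun k => conj (f k) with he
  have hec : IsCentralElt e := isCentralElt_ofFun fun g h => by
    show conj (f (h * g * h⁻¹)) = conj (f g)
    rw [hf g h]
  have hnorm : ∀ y ∈ N, conj (f y) * f y = 1 := by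
    intro y hy
    have hpow : ∀ n : ℕ, f (y ^ n) = f y ^ n := by
      intro n
      induction n with
      | zero => rw [pow_zero, pow_zero, h1]
      | succ n ih => rw [pow_succ, hmul _ _ (pow_mem hy n) hy, ih, pow_succ]
    have hn : f y ^ orderOf y = 1 := by rw [← hpow, pow_orderOf_eq_one, h1]
    rw [mul_comm, Complex.mul_conj, Complex.normSq_eq_norm_sq,
      Complex.norm_eq_one_of_pow_eq_one hn (orderOf_pos y).ne']
    simp
  -- translating `e` by an element of `N` multiplies it by the value there
  have hshift : ∀ y ∈ N, single y (1 : ℂ) * e = f y • e := by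
    intro y hy
    refine MonoidAlgebra.ext (Finsupp.ext fun k => ?_)
    rw [coeff_single_mul_apply, one_mul, MonoidAlgebra.coeff_smul, Finsupp.smul_apply, he,
      coeff_ofFun, coeff_ofFun, smul_eq_mul]
    by_cases hk : k ∈ N
    · have h := hmul y⁻¹ y (inv_mem hy) hy
      rw [inv_mul_cancel, h1] at h
      have hinv : conj (f y⁻¹) = f y := by
        have h2 := congrArg conj h
        rw [map_one, map_mul] at h2
        calc conj (f y⁻¹) = conj (f y⁻¹) * (conj (f y) * f y) := by rw [hnorm y hy, mul_one]
          _ = f y := by rw [← mul_assoc, ← h2, one_mul]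
      rw [hmul _ _ (inv_mem hy) hk, map_mul, hinv]
    · rw [hout _ hk, hout _ fun h => hk (by
        simpa using N.mul_mem hy h), map_zero, mul_zero]
  by_cases h0 : omega ξ e = 0
  · exact Or.inl h0
  refine Or.inr ?_
  have hval : ∀ y ∈ N, ξ y = f y * ξ 1 := by
    intro y hy
    have h2 : omega ξ e * ξ y = f y * chiLin ξ e := by
      have h3 := chiLin_central_mul hξ hec (single y (1 : ℂ))
      rw [isCentralElt_comm hec, hshift y hy, chiLin_smul, chiLin_single, one_mul] at h3
      exact h3.symm
    have h4 : chiLin ξ e = omega ξ e * ξ 1 := by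
      rw [omega, div_mul_cancel₀ _ (irr_one_ne_zero hξ)]
    rw [h4, mul_left_comm] at h2
    exact mul_left_cancel₀ h0 h2
  refine ⟨?_, hval⟩
  have hsum : chiLin ξ e = (Nat.card N : ℂ) * ξ 1 := by
    rw [chiLin]
    calc ∑ k, e.coeff k * ξ k = ∑ k, if k ∈ N then ξ 1 else 0 := by
          refine Finset.sum_congr rfl fun k _ => ?_
          rw [he, coeff_ofFun]
          split_ifs with hk
          · rw [hval k hk, ← mul_assoc, hnorm k hk, one_mul]
          · rw [hout k hk, map_zero, zero_mul]
      _ = (Nat.card N : ℂ) * ξ 1 := by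
          rw [← Finset.sum_filter, Finset.sum_const, nsmul_eq_mul, Nat.card_eq_fintype_card,
            Fintype.card_subtype]
  rw [omega, hsum, mul_div_assoc, div_self (irr_one_ne_zero hξ), mul_one]

variable {x : G} {e : ℕ}

open scoped Classical in
/-- The dichotomy on the section `x O`. -/
theorem section_dichotomy [Fintype G] [hp : Fact p.Prime] (hM : IsPModular p M)
    (hx : orderOf x = p ^ e) {O : Subgroup G} (hOx : ∀ y ∈ O, y * x = x * y)
    (hreg : ∀ y : G, y * x = x * y → (¬ p ∣ orderOf y ↔ y ∈ O))
    {Z : G → ℂ} (hZ : IsClassFunction G Z) (hZint : ∀ g, MemLocalRing M (conj (Z g)))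
    (hsing : ∀ g, p ∣ orderOf g → Z g = 0) (h1 : Z 1 = 1)
    (hmul : ∀ a b : G, a ∈ O → b ∈ O → Z (a * b) = Z a * Z b) (χ : IrrCharacter G) :
    (¬ MemLocalIdeal M (omega (χ : G → ℂ) (ofFun fun g => conj (Z g))) →
      ∀ y ∈ O, (χ : G → ℂ) (x * y) = Z y * (χ : G → ℂ) x) ∧
    (MemLocalIdeal M (omega (χ : G → ℂ) (ofFun fun g => conj (Z g))) →
      ∑ y : G with y ∈ O, conj (Z y) * (χ : G → ℂ) (x * y) = 0) := by
  set H := Subgroup.centralizer ({x} : Set G) with hH
  haveI : Fintype H := Fintype.ofFinite _
  have hmem : ∀ c : G, c ∈ H ↔ c * x = x * c := fun c =>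
    Subgroup.mem_centralizer_singleton_iff
  set N := O.subgroupOf H with hN
  haveI : Fintype N := Fintype.ofFinite _
  have hNmem : ∀ c : H, c ∈ N ↔ (c : G) ∈ O := fun c => Subgroup.mem_subgroupOf
  have hOH : O ≤ H := fun y hy => (hmem y).2 (hOx y hy)
  have hregH : ∀ c : H, ¬ p ∣ orderOf c ↔ c ∈ N := fun c => by
    rw [hNmem, ← Subgroup.orderOf_coe, hreg _ ((hmem _).1 c.2)]
  have hNcard : ¬ p ∣ Nat.card N := fun hd => by
    obtain ⟨c, hc⟩ := exists_prime_orderOf_dvd_card' p hd
    have h := (hregH c).2 c.2
    rw [Subgroup.orderOf_coe, hc] at h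
    exact h dvd_rfl
  set z : MonoidAlgebra ℂ G := ofFun fun g => conj (Z g) with hz
  have hzc : IsCentralElt z := isCentralElt_ofFun fun g h => by
    show conj (Z (h * g * h⁻¹)) = conj (Z g)
    rw [hZ g h]
  set f : H → ℂ := fun c => Z (c : G) with hf
  have hfres : resElt H z = ofFun fun c : H => conj (f c) := by
    rw [resElt, hz]
    simp [hf]
  have hfc : IsClassFunction H f := fun g k => by
    show Z ((k * g * k⁻¹ : H) : G) = Z g
    push_cast
    exact hZ _ _
  have hfout : ∀ c : H, c ∉ N → f c = 0 := fun c hc => by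
    refine hsing _ ?_
    rw [Subgroup.orderOf_coe]
    exact not_not.1 fun h => hc ((hregH c).1 h)
  have hfmul : ∀ a b : H, a ∈ N → b ∈ N → f (a * b) = f a * f b := fun a b ha hb =>
    hmul _ _ ((hNmem a).1 ha) ((hNmem b).1 hb)
  have hcases := fun (ξ : IrrCharacter H) =>
    omega_linear_cases N hfc hfout hfmul (by simpa [hf] using h1) ξ.2
  rw [← hfres] at hcases
  set θ : H → ℂ := fun c => (χ : G → ℂ) (x * (c : G)) with hθdef
  have hθ : IsClassFunction H θ := fun g k => by
    show (χ : G → ℂ) (x * ((k * g * k⁻¹ : H) : G)) = _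
    have hk := (hmem _).1 k.2
    rw [show x * ((k * g * k⁻¹ : H) : G) = (k : G) * (x * (g : G)) * (k : G)⁻¹ by
      push_cast; rw [← mul_assoc (k : G) x, hk]; group]
    exact IsIrr.isClassFunction χ.2 _ _
  -- the integrality needed to move the central character
  have hconj : ∀ g, MemLocalRing M (conj (Z g)) := by
    intro g
    by_cases hg : p ∣ orderOf g
    · rw [hsing g hg, map_zero]; exact (locRing hM).zero_mem
    · exact hZint g
  have hzi : IsIntElt M z := fun g => by rw [hz, coeff_ofFun]; exact hconj g
  -- relevant characters of the centraliser have the same central character at `z`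
  have hblocks : ∀ y ∈ N, θ y = ∑ ξ : IrrCharacter H,
      if IsInducedBlock M H (blockOf M (ξ : H → ℂ)) (blockOf M (χ : G → ℂ))
      then classInner θ (ξ : H → ℂ) * (ξ : H → ℂ) y else 0 := by
    intro y hy
    conv_lhs => rw [classFunction_expansion hθ]
    simp only [Finset.sum_apply, Pi.smul_apply, smul_eq_mul]
    rw [← Finset.sum_filter_add_sum_filter_not Finset.univ
      (fun ξ : IrrCharacter H =>
        IsInducedBlock M H (blockOf M (ξ : H → ℂ)) (blockOf M (χ : G → ℂ))),
      ← Finset.sum_filter, add_eq_left]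
    rw [← Finset.sum_fiberwise_of_maps_to (g := fun ξ : IrrCharacter H => blockOf M (ξ : H → ℂ))
      (t := Finset.univ.image fun ξ : IrrCharacter H => blockOf M (ξ : H → ℂ))
      (fun ξ _ => Finset.mem_image_of_mem _ (Finset.mem_univ ξ))]
    refine Finset.sum_eq_zero fun b hb => ?_
    obtain ⟨ξ₀, -, rfl⟩ := Finset.mem_image.1 hb
    by_cases hind : IsInducedBlock M H (blockOf M (ξ₀ : H → ℂ)) (blockOf M (χ : G → ℂ))
    · refine Finset.sum_eq_zero fun ξ hξ => absurd hind ?_
      simp only [Finset.mem_filter, Finset.mem_univ, true_and] at hξ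
      exact hξ.2 ▸ hξ.1
    have h2 := second_main hM hx (isPBlock_blockOf M χ) (self_mem_blockOf hM χ)
      (isPBlock_blockOf M ξ₀) hind y ((hregH y).2 hy)
    rw [blockPart, finsum_mem_eq_sum_ite,
      Subsingleton.elim (Fintype.ofFinite H) ‹Fintype H›, ← Finset.sum_filter] at h2
    refine Eq.trans (Finset.sum_congr ?_ fun _ _ => rfl) h2
    ext ξ
    simp only [Finset.mem_filter, Finset.mem_univ, true_and]
    constructor
    · rintro ⟨-, heq⟩
      exact heq ▸ self_mem_blockOf hM ξ
    · intro hξ
      have heq := (isPBlock_eq_blockOf hM (isPBlock_blockOf M ξ₀) hξ).symm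
      exact ⟨by rw [heq]; exact hind, heq⟩
  have hcongr : ∀ ξ : IrrCharacter H,
      IsInducedBlock M H (blockOf M (ξ : H → ℂ)) (blockOf M (χ : G → ℂ)) →
      MemLocalIdeal M (omega (ξ : H → ℂ) (resElt H z) - omega (χ : G → ℂ) z) := fun ξ hind =>
    omega_resElt_congr hM (IsIrr.isClassFunction χ.2)
      (hind.2.2 ξ (self_mem_blockOf hM ξ) χ (self_mem_blockOf hM χ)) hzc hzi
  have hcard : ¬ MemLocalIdeal M (Nat.card N : ℂ) := fun h =>
    hNcard ((memLocalIdeal_natCast_iff hM _).1 h)
  refine ⟨fun hχ y hy => ?_, fun hχ => ?_⟩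
  · have hin : ∀ ξ : IrrCharacter H,
        IsInducedBlock M H (blockOf M (ξ : H → ℂ)) (blockOf M (χ : G → ℂ)) →
        ∀ w ∈ N, (ξ : H → ℂ) w = f w * (ξ : H → ℂ) 1 := fun ξ hind w hw => by
      rcases hcases ξ with h | ⟨-, h⟩
      · refine absurd ?_ hχ
        have h2 := memLocalIdeal_neg (hcongr ξ hind)
        rwa [h, zero_sub, neg_neg] at h2
      · exact h w hw
    have key : ∀ w ∈ N, θ w = f w * θ 1 := fun w hw => by
      rw [hblocks w hw, hblocks 1 N.one_mem, Finset.mul_sum]
      refine Finset.sum_congr rfl fun ξ _ => ?_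
      split_ifs with hind
      · rw [hin ξ hind w hw]; ring
      · rw [mul_zero]
    have h := key ⟨y, hOH hy⟩ ((hNmem _).2 hy)
    simpa [hθdef, hf] using h
  · have hzero : ∀ ξ : IrrCharacter H,
        IsInducedBlock M H (blockOf M (ξ : H → ℂ)) (blockOf M (χ : G → ℂ)) →
        chiLin (ξ : H → ℂ) (resElt H z) = 0 := fun ξ hind => by
      rcases hcases ξ with h | ⟨h, -⟩
      · rw [omega, div_eq_zero_iff] at h
        exact h.resolve_right (irr_one_ne_zero ξ.2)
      · refine absurd ?_ hcard
        have h2 := memLocalIdeal_add hM (hcongr ξ hind) hχ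
        rwa [sub_add_cancel, h] at h2
    calc ∑ y : G with y ∈ O, conj (Z y) * (χ : G → ℂ) (x * y)
        = ∑ c : H with c ∈ N, conj (f c) * θ c := by
          refine Finset.sum_bij' (fun y hy => (⟨y, hOH (Finset.mem_filter.1 hy).2⟩ : H))
            (fun c _ => (c : G)) ?_ ?_ ?_ ?_ ?_
          · intro y hy
            exact Finset.mem_filter.2 ⟨Finset.mem_univ _,
              (hNmem _).2 (Finset.mem_filter.1 hy).2⟩
          · intro c hc
            exact Finset.mem_filter.2 ⟨Finset.mem_univ _,
              (hNmem c).1 (Finset.mem_filter.1 hc).2⟩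
          · exact fun _ _ => rfl
          · exact fun _ _ => rfl
          · exact fun _ _ => rfl
      _ = ∑ c : H with c ∈ N, ∑ ξ : IrrCharacter H,
            if IsInducedBlock M H (blockOf M (ξ : H → ℂ)) (blockOf M (χ : G → ℂ))
            then conj (f c) * (classInner θ (ξ : H → ℂ) * (ξ : H → ℂ) c) else 0 := by
          refine Finset.sum_congr rfl fun c hc => ?_
          rw [hblocks c (Finset.mem_filter.1 hc).2, Finset.mul_sum]
          exact Finset.sum_congr rfl fun ξ _ => by rw [mul_ite, mul_zero]
      _ = 0 := by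
          rw [Finset.sum_comm]
          refine Finset.sum_eq_zero fun ξ _ => ?_
          by_cases hind : IsInducedBlock M H (blockOf M (ξ : H → ℂ)) (blockOf M (χ : G → ℂ))
          · simp only [if_pos hind]
            have h := hzero ξ hind
            rw [chiLin, hfres] at h
            simp only [coeff_ofFun] at h
            have h2 : ∑ c : H with c ∈ N, conj (f c) * (ξ : H → ℂ) c = 0 := by
              rw [Finset.sum_filter]
              refine Eq.trans (Finset.sum_congr rfl fun c _ => ?_) h
              split_ifs with hc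
              · rfl
              · rw [hfout c hc, map_zero, zero_mul]
            rw [← mul_zero (classInner θ (ξ : H → ℂ)), ← h2, Finset.mul_sum]
            exact Finset.sum_congr rfl fun c _ => by ring
          · simp [if_neg hind]

end Cfsg.Agent.H15.GW
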