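import Cfsg.Agent.Cores.DihedralCount
import Cfsg.Agent.H15.GW.StableExt
import Cfsg.Agent.H15.GW.StableBlock

/-!
# Column products and pair counts for a stable linear character

For a group with a dihedral Sylow `2`-subgroup and one class of involutions, the characters on
whose block a stable linear character `ψ` of `O(C(t))` sits (`InLin`) have the same column
products on nontrivial `2`-elements and the same weighted pair counts as the principal block.
-/

open scoped ComplexConjugate

set_option autoImplicit false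
set_option linter.style.haveILetI false

namespace Cfsg.Agent.H15.GW

open MonoidAlgebra BlockBasic CharBasic Cores H39

universe u

variable {G : Type u} [Group G] [Finite G]

/-- The hypotheses on the linear character. -/
structure LinDatum (t : G) (ψ : G → ℂ) : Prop extends StableDatum t ψ where
  map_mul : ∀ a b : G, a * t = t * a → Odd (orderOf a) → b * t = t * b → Odd (orderOf b) →
    ψ (a * b) = ψ a * ψ b
  map_one : ψ 1 = 1

variable {t : G} {ψ : G → ℂ}

omit [Finite G] in
theorem LinDatum.map_pow (hd : LinDatum t ψ) {z : G} (hz : Odd (orderOf z)) (hzt : z * t = t * z)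
    (n : ℕ) : ψ (z ^ n) = ψ z ^ n := by
  induction n with
  | zero => rw [pow_zero, pow_zero, hd.map_one]
  | succ n ih =>
    rw [pow_succ, hd.map_mul _ _ ((Commute.pow_left hzt n).eq) ?_ hzt hz, ih, pow_succ]
    exact hz.of_dvd_nat (orderOf_pow_dvd n)

omit [Finite G] in
theorem LinDatum.pow_orderOf (hd : LinDatum t ψ) {z : G} (hz : Odd (orderOf z))
    (hzt : z * t = t * z) : ψ z ^ orderOf z = 1 := by
  rw [← hd.map_pow hz hzt, pow_orderOf_eq_one, hd.map_one]

variable {p : ℕ} {M : Ideal AlgInt}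

theorem LinDatum.memLocalRing_conj (hd : LinDatum t ψ) (hM : IsPModular p M) (g : G) :
    MemLocalRing M (conj (stableExt t ψ g)) := by
  rcases hd.toStableDatum.ext_range g with e | ⟨z, hz, hzt, e⟩ <;> rw [e]
  · rw [map_zero]; exact (locRing hM).zero_mem
  · refine memLocalRing_of_isIntegral hM ?_
    refine IsIntegral.of_pow (orderOf_pos z) ?_
    rw [← _root_.map_pow, hd.pow_orderOf hz hzt, _root_.map_one]
    exact isIntegral_one

/-- `χ` sits on the block of `ψ`. -/
def InLin [Fintype G] (M : Ideal AlgInt) (t : G) (ψ : G → ℂ) (χ : IrrCharacter G) : Prop :=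
  ¬ MemLocalIdeal M
    (omega (χ : G → ℂ) (ofFun fun g => conj (stableExt t ψ g)))

variable {P : Sylow 2 G} {h : ℕ} {σ τ : G}

variable [Fintype G]

open scoped Classical in
/-- The odd elements centralising a `2`-element `u ≠ 1` form a subgroup on which the extension
is multiplicative. -/
theorem LinDatum.exists_oddPart (hd : LinDatum t ψ) (hD : DGen (P : Subgroup G) h σ τ) {u : G}
    (hu : ∃ k, orderOf u = 2 ^ k) (hu1 : u ≠ 1) :
    ∃ O : Subgroup G, (∀ y, y ∈ O ↔ y ∈ regCentral u) ∧
      (∀ a b, a ∈ O → b ∈ O → stableExt t ψ (a * b) = stableExt t ψ a * stableExt t ψ b) ∧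
      Nat.card (Subgroup.centralizer ({u} : Set G)) =
        Nat.card O * 2 ^ (Nat.card (Subgroup.centralizer ({u} : Set G))).factorization 2 := by
  classical
  haveI : Fact (Nat.Prime 2) := ⟨Nat.prime_two⟩
  set C := Subgroup.centralizer ({u} : Set G) with hC
  have hc := dihedral_centralizer_complement hD hu hu1
  obtain ⟨S⟩ : Nonempty (Sylow 2 C) := inferInstance
  have hcomp := exists_normal_isComplement'_sylow hc S
  have hidx : (pPrimeCore 2 C).index = 2 ^ (Nat.card C).factorization 2 := by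
    rw [hcomp.symm.index_eq_card]; exact S.card_eq_multiplicity
  have hodd : ¬ 2 ∣ Nat.card (pPrimeCore 2 C) := not_dvd_card_pPrimeCore
  set O : Subgroup G := (pPrimeCore 2 C).map C.subtype with hO
  have hmem : ∀ y, y ∈ O ↔ y ∈ regCentral u := by
    intro y
    rw [mem_regCentral]
    constructor
    · rintro ⟨c, hc', rfl⟩
      refine ⟨(Subgroup.mem_centralizer_singleton_iff.1 c.2).symm, ?_⟩
      refine Nat.not_even_iff_odd.1 fun h2 => hodd ((even_iff_two_dvd.1 h2).trans ?_)
      rw [Subgroup.coe_subtype, Subgroup.orderOf_coe]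
      exact Subgroup.orderOf_dvd_natCard _ hc'
    · rintro ⟨hy, ho⟩
      refine ⟨⟨y, Subgroup.mem_centralizer_singleton_iff.2 hy.symm⟩, mem_of_regular ⟨_, hidx⟩ ?_, rfl⟩
      rw [Subgroup.orderOf_mk]
      exact fun h2 => Nat.not_even_iff_odd.2 ho (even_iff_two_dvd.2 h2)
  refine ⟨O, hmem, ?_, ?_⟩
  · intro a b ha hb
    have hab := O.mul_mem ha hb
    obtain ⟨k, hk⟩ := hu
    have hk1 : 1 ≤ k := by
      rcases k with _ | k
      · exact absurd (orderOf_eq_one_iff.1 (by rw [hk, pow_zero])) hu1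
      · omega
    set i := u ^ (2 ^ (k - 1)) with hi
    have hi2 : orderOf i = 2 := by
      rw [hi, orderOf_pow_of_dvd (by positivity) (by rw [hk]; exact pow_dvd_pow 2 (by omega)), hk,
        Nat.pow_div (by omega) two_pos, show k - (k - 1) = 1 by omega, pow_one]
    obtain ⟨g, hg⟩ := isConj_iff.1 (hd.oneClass i hi2)
    have key : ∀ y ∈ O, Odd (orderOf y) ∧ y * (g * t * g⁻¹) = g * t * g⁻¹ * y ∧
        Odd (orderOf (g⁻¹ * y * g)) ∧ (g⁻¹ * y * g) * t = t * (g⁻¹ * y * g) := by
      intro y hy
      obtain ⟨hyu, hyo⟩ := mem_regCentral.1 ((hmem y).1 hy)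
      have hyi : y * (g * t * g⁻¹) = g * t * g⁻¹ * y := by
        rw [hg]; exact ((Commute.symm hyu).pow_right _).eq
      refine ⟨hyo, hyi, odd_orderOf_conj g hyo, ?_⟩
      calc g⁻¹ * y * g * t = g⁻¹ * (y * (g * t * g⁻¹)) * g := by group
        _ = g⁻¹ * (g * t * g⁻¹ * y) * g := by rw [hyi]
        _ = t * (g⁻¹ * y * g) := by group
    obtain ⟨a1, a2, a3, a4⟩ := key a ha
    obtain ⟨b1, b2, b3, b4⟩ := key b hb
    obtain ⟨c1, c2, -, -⟩ := key _ hab
    rw [hd.toStableDatum.ext_eq c1 c2, hd.toStableDatum.ext_eq a1 a2,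
      hd.toStableDatum.ext_eq b1 b2,
      show g⁻¹ * (a * b) * g = (g⁻¹ * a * g) * (g⁻¹ * b * g) by group]
    exact hd.map_mul _ _ a4 a3 b4 b3
  · rw [hO, Subgroup.card_map_of_injective C.subtype_injective, ← hidx, Subgroup.card_mul_index]

open scoped Classical in
/-- The projection of a character on the section of `u`. -/
theorem LinDatum.sum_section (hd : LinDatum t ψ) (hD : DGen (P : Subgroup G) h σ τ)
    (hM : IsPModular 2 M) {u : G} (hu : ∃ k, orderOf u = 2 ^ k) (hu1 : u ≠ 1)
    (χ : IrrCharacter G) :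
    (InLin M t ψ χ → ∀ y ∈ regCentral u, (χ : G → ℂ) (u * y) =
      stableExt t ψ y * (χ : G → ℂ) u) ∧
    ∑ y ∈ regCentral u, conj (stableExt t ψ y) * (χ : G → ℂ) (u * y) =
      if InLin M t ψ χ then ((regCentral u).card : ℂ) * (χ : G → ℂ) u else 0 := by
  haveI : Fact (Nat.Prime 2) := ⟨Nat.prime_two⟩
  obtain ⟨O, hO, hmul, -⟩ := hd.exists_oddPart hD hu hu1
  obtain ⟨e, he⟩ := hu
  have hdich := section_dichotomy hM he (O := O)
    (fun y hy => ((mem_regCentral.1 ((hO y).1 hy)).1).symm)
    (fun y hy => by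
      rw [hO, mem_regCentral]
      exact ⟨fun h2 => ⟨hy.symm, Nat.not_even_iff_odd.1 fun h => h2 (even_iff_two_dvd.1 h)⟩,
        fun h2 hd' => Nat.not_even_iff_odd.2 h2.2 (even_iff_two_dvd.2 hd')⟩)
    (Z := stableExt t ψ) (fun g x => hd.toStableDatum.ext_conj g x) (hd.memLocalRing_conj hM)
    (fun g hg => stableExt_of_not_odd fun ho => Nat.not_even_iff_odd.2 ho (even_iff_two_dvd.2 hg))
    (by
      rw [hd.toStableDatum.ext_eq_self (by simp) (by simp), hd.map_one])
    hmul χ
  have hin : InLin M t ψ χ → ∀ y ∈ regCentral u, (χ : G → ℂ) (u * y) =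
      stableExt t ψ y * (χ : G → ℂ) u := fun hχ y hy => hdich.1 hχ y ((hO y).2 hy)
  refine ⟨hin, ?_⟩
  split_ifs with hχ
  · rw [Finset.sum_congr rfl (g := fun _ => (χ : G → ℂ) u), Finset.sum_const, nsmul_eq_mul]
    intro y hy
    rw [hin hχ y hy, ← mul_assoc]
    obtain ⟨hyu, hyo⟩ := mem_regCentral.1 hy
    have hone : stableExt t ψ y ^ orderOf y = 1 := by
      have hpow : ∀ n : ℕ, stableExt t ψ (y ^ n) = stableExt t ψ y ^ n := by
        intro n
        induction n with
        | zero =>
          rw [pow_zero, pow_zero, hd.toStableDatum.ext_eq_self (by simp) (by simp), hd.map_one]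
        | succ n ih =>
          rw [pow_succ, hmul _ _ (O.pow_mem ((hO y).2 hy) n) ((hO y).2 hy), ih, pow_succ]
      rw [← hpow, pow_orderOf_eq_one, hd.toStableDatum.ext_eq_self (by simp) (by simp), hd.map_one]
    rw [mul_comm (conj _), Complex.mul_conj, Complex.normSq_eq_norm_sq,
      Complex.norm_eq_one_of_pow_eq_one hone (orderOf_pos y).ne']
    simp
  · refine Eq.trans (Finset.sum_congr ?_ fun _ _ => rfl) (hdich.2 (not_not.1 hχ))
    ext y
    simp [hO]

open scoped Classical in
/-- The column products on `2`-elements are those of the principal block. -/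
theorem LinDatum.kernel_two (hd : LinDatum t ψ) (hD : DGen (P : Subgroup G) h σ τ)
    (hM : IsPModular 2 M) {u v : G} (hu : ∃ k, orderOf u = 2 ^ k) (hu1 : u ≠ 1)
    (hv : ∃ k, orderOf v = 2 ^ k) :
    (∑ χ : IrrCharacter G, if InLin M t ψ χ then (χ : G → ℂ) u * conj ((χ : G → ℂ) v) else 0) =
      blockKernel (principalBlock M G) u v := by
  haveI : Fact (Nat.Prime 2) := ⟨Nat.prime_two⟩
  obtain ⟨O, hO, -, hcard⟩ := hd.exists_oddPart hD hu hu1
  rw [blockKernel_principal_pElement hM hu hv,
    sum_sq_degree_principal_of_complement hM (dihedral_centralizer_complement hD hu hu1)]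
  have hcO : (regCentral u).card = Nat.card O := by
    rw [Nat.card_eq_fintype_card, Fintype.card_subtype]
    congr 1
    ext y
    simp [hO]
  have hne : ((regCentral u).card : ℂ) ≠ 0 := by
    rw [hcO]; exact Nat.cast_ne_zero.2 Nat.card_pos.ne'
  refine mul_left_cancel₀ hne ?_
  calc ((regCentral u).card : ℂ) * ∑ χ : IrrCharacter G,
        (if InLin M t ψ χ then (χ : G → ℂ) u * conj ((χ : G → ℂ) v) else 0)
      = ∑ χ : IrrCharacter G, (∑ y ∈ regCentral u,
          conj (stableExt t ψ y) * (χ : G → ℂ) (u * y)) * conj ((χ : G → ℂ) v) := by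
        rw [Finset.mul_sum]
        refine Finset.sum_congr rfl fun χ _ => ?_
        rw [(hd.sum_section hD hM hu hu1 χ).2]
        split_ifs <;> ring
    _ = ∑ y ∈ regCentral u, conj (stableExt t ψ y) *
          (Nat.card {x : G // x * v * x⁻¹ = u * y} : ℂ) := by
        simp only [Finset.sum_mul]
        rw [Finset.sum_comm]
        refine Finset.sum_congr rfl fun y _ => ?_
        rw [← second_orthogonality_count, Finset.mul_sum]
        exact Finset.sum_congr rfl fun χ _ => by ring
    _ = (Nat.card {x : G // x * v * x⁻¹ = u} : ℂ) := by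
        rw [Finset.sum_eq_single (1 : G)]
        · rw [hd.toStableDatum.ext_eq_self (by simp) (by simp), hd.map_one, mul_one, _root_.map_one,
            one_mul]
        · intro y hy hy1
          obtain ⟨hyu, hyo⟩ := mem_regCentral.1 hy
          have : IsEmpty {x : G // x * v * x⁻¹ = u * y} := ⟨fun ⟨x, hx⟩ => hy1 <| by
            have h2 : ∃ k, orderOf (u * y) = 2 ^ k := by
              obtain ⟨k, hk⟩ := hv
              exact ⟨k, by rw [← hx, H39.orderOf_conj, hk]⟩
            have h3 := (pPart_eq_self_iff (p := 2) (u * y)).2 h2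
            rw [pPart_mul_of hyu hu (fun hd' => Nat.not_even_iff_odd.2 hyo
              (even_iff_two_dvd.2 hd'))] at h3
            exact mul_left_cancel (h3.symm.trans (mul_one u).symm)⟩
          rw [Nat.card_of_isEmpty, Nat.cast_zero, mul_zero]
        · intro hn
          exact absurd (mem_regCentral.2 ⟨by simp, by simp⟩) hn
    _ = _ := by
        split_ifs with hc
        · obtain ⟨c, rfl⟩ := isConj_iff.1 hc
          rw [hcO, ← Nat.cast_mul, ← hcard]
          congr 1
          refine Nat.card_congr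
            { toFun := fun x => ⟨x.1 * c, Subgroup.mem_centralizer_singleton_iff.2 ?_⟩
              invFun := fun z => ⟨(z : G) * c⁻¹, ?_⟩
              left_inv := fun x => Subtype.ext (mul_inv_cancel_right _ _)
              right_inv := fun z => Subtype.ext (inv_mul_cancel_right _ _) }
          · calc x.1 * c * u = (x.1 * (c * u * c⁻¹) * x.1⁻¹) * (x.1 * c) := by group
              _ = u * (x.1 * c) := by rw [x.2]
          · calc (z : G) * c⁻¹ * (c * u * c⁻¹) * ((z : G) * c⁻¹)⁻¹ = (z : G) * u * (z : G)⁻¹ := by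
                  group
              _ = u := by
                  rw [Subgroup.mem_centralizer_singleton_iff.1 z.2, mul_inv_cancel_right]
        · have : IsEmpty {x : G // x * v * x⁻¹ = u} :=
            ⟨fun ⟨x, hx⟩ => hc (isConj_iff.2 ⟨x, hx⟩).symm⟩
          rw [Nat.card_of_isEmpty, Nat.cast_zero, mul_zero]

open scoped Classical in
/-- The column of a nontrivial `2`-element is orthogonal to the degrees. -/
theorem LinDatum.kernel_one (hd : LinDatum t ψ) (hD : DGen (P : Subgroup G) h σ τ)
    (hM : IsPModular 2 M) {u : G} (hu : ∃ k, orderOf u = 2 ^ k) (hu1 : u ≠ 1) :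
    (∑ χ : IrrCharacter G, if InLin M t ψ χ then (χ : G → ℂ) u * (χ : G → ℂ) 1 else 0) = 0 := by
  haveI : Fact (Nat.Prime 2) := ⟨Nat.prime_two⟩
  have h := hd.kernel_two hD hM hu hu1 (v := 1) ⟨0, by simp⟩
  rw [blockKernel_principal_pElement hM hu ⟨0, by simp⟩,
    if_neg (fun hc => hu1 (isConj_one_left.1 hc))] at h
  refine Eq.trans (Finset.sum_congr rfl fun χ _ => ?_) h
  rw [apply_one_eq_charDegree]
  simp

open scoped Classical in
/-- The weighted count of involution pairs with product in a section does not see the weight. -/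
theorem LinDatum.pair_sum_eq (hd : LinDatum t ψ) (hD : DGen (P : Subgroup G) h σ τ)
    (hM : IsPModular 2 M) {g : G} (hg : ∃ k, orderOf g = 2 ^ k) (hg1 : g ≠ 1) :
    (∑ χ : IrrCharacter G, if InLin M t ψ χ then
        conj ((χ : G → ℂ) t) * conj ((χ : G → ℂ) t) * (χ : G → ℂ) g / (χ : G → ℂ) 1 else 0) =
      ∑ᶠ χ ∈ principalBlock M G,
        conj ((χ : G → ℂ) t) * conj ((χ : G → ℂ) t) * (χ : G → ℂ) g / (χ : G → ℂ) 1 := by
  haveI : Fact (Nat.Prime 2) := ⟨Nat.prime_two⟩
  obtain ⟨O, hO, hmul, -⟩ := hd.exists_oddPart hD hg hg1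
  have hts : ∀ w : G, IsConj t w → w * w = 1 := fun w hw => by
    obtain ⟨c, rfl⟩ := isConj_iff.1 hw
    calc c * t * c⁻¹ * (c * t * c⁻¹) = c * (t * t) * c⁻¹ := by group
      _ = 1 := by rw [mul_self_of_orderOf_eq_two hd.ord]; group
  set N : G → ℕ := fun y => Nat.card {a : G // IsConj t a ∧ IsConj t (a⁻¹ * y)} with hN
  have hweight : ∀ y ∈ regCentral g,
      conj (stableExt t ψ y) * (N (g * y) : ℂ) = (N (g * y) : ℂ) := by
    intro y hy
    by_cases h0 : N (g * y) = 0
    · rw [h0]; simp
    obtain ⟨⟨a, ha, hb⟩⟩ := (Nat.card_pos_iff.1 (Nat.pos_of_ne_zero h0)).1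
    obtain ⟨hgy, hyo⟩ := mem_regCentral.1 hy
    have haa := hts a ha
    have hbb := hts _ hb
    have hai : a⁻¹ = a := inv_eq_of_mul_eq_one_right haa
    have hinv : a * (g * y) * a⁻¹ = (g * y)⁻¹ := by
      rw [hai]
      refine eq_inv_of_mul_eq_one_left ?_
      rw [hai] at hbb
      simpa [mul_assoc] using hbb
    have hyr : ¬ 2 ∣ orderOf y := fun h2 =>
      Nat.not_even_iff_odd.2 hyo (even_iff_two_dvd.2 h2)
    have hp : pPart (p := 2) (g * y) = g := pPart_mul_of hgy hg hyr
    have hp' : pPart (p := 2) (g * y)⁻¹ = g⁻¹ := by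
      rw [mul_inv_rev]
      rw [show y⁻¹ * g⁻¹ = g⁻¹ * y⁻¹ from ((Commute.inv_inv hgy).eq).symm]
      exact pPart_mul_of (Commute.inv_inv hgy) (by simpa using hg) (by simpa using hyr)
    have hag : a * g * a⁻¹ = g⁻¹ := by rw [← hp', ← hinv, pPart_conj, hp]
    have hay : a * y * a⁻¹ = y⁻¹ := by
      have h1 : (a * g * a⁻¹) * (a * y * a⁻¹) = g⁻¹ * y⁻¹ := by
        rw [show (a * g * a⁻¹) * (a * y * a⁻¹) = a * (g * y) * a⁻¹ by group, hinv, mul_inv_rev,
          ((Commute.inv_inv hgy).eq).symm]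
      rw [hag] at h1
      exact mul_left_cancel h1
    have hyO : y ∈ O := (hO y).2 hy
    set z := stableExt t ψ y with hz
    have h1 : stableExt t ψ 1 = 1 := by
      rw [hd.toStableDatum.ext_eq_self (by simp) (by simp), hd.map_one]
    have hzz : z * z = 1 := by
      have h2 := hmul y y⁻¹ hyO (O.inv_mem hyO)
      rw [mul_inv_cancel, h1, ← hay, hd.toStableDatum.ext_conj] at h2
      exact h2.symm
    have hpow : ∀ n : ℕ, stableExt t ψ (y ^ n) = z ^ n := by
      intro n
      induction n with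
      | zero => rw [pow_zero, pow_zero, h1]
      | succ n ih => rw [pow_succ, hmul _ _ (O.pow_mem hyO n) hyO, ih, pow_succ]
    have hone : z ^ orderOf y = 1 := by rw [← hpow, pow_orderOf_eq_one, h1]
    obtain ⟨r, hr⟩ := hyo
    rw [hr, pow_succ, pow_mul, pow_two, hzz, one_pow, one_mul] at hone
    rw [hone, _root_.map_one, one_mul]
  have hside : ∀ (w : G → ℂ) (Q : IrrCharacter G → Prop),
      (∀ χ : IrrCharacter G, ∑ y ∈ regCentral g, w y * (χ : G → ℂ) (g * y) =
        if Q χ then ((regCentral g).card : ℂ) * (χ : G → ℂ) g else 0) →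
      (Nat.card G : ℂ) * ∑ y ∈ regCentral g, w y * (N (g * y) : ℂ) =
        ((Subgroup.centralizer ({t} : Set G)).index : ℂ) *
          ((Subgroup.centralizer ({t} : Set G)).index : ℂ) * ((regCentral g).card : ℂ) *
          ∑ χ : IrrCharacter G, if Q χ then
            conj ((χ : G → ℂ) t) * conj ((χ : G → ℂ) t) * (χ : G → ℂ) g / (χ : G → ℂ) 1
            else 0 := by
    intro w Q hQ
    simp only [Finset.mul_sum, hN]
    rw [Finset.sum_congr rfl fun y (_ : y ∈ regCentral g) =>
      show (Nat.card G : ℂ) * (w y * (Nat.card {a : G // IsConj t a ∧ IsConj t (a⁻¹ * (g * y))} : ℂ))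
        = w y * ((Nat.card G : ℂ) *
          (Nat.card {a : G // IsConj t a ∧ IsConj t (a⁻¹ * (g * y))} : ℂ)) by ring]
    simp only [H83.card_pairs_mul_card, Finset.mul_sum]
    rw [Finset.sum_comm]
    refine Finset.sum_congr rfl fun χ _ => ?_
    rw [Finset.sum_congr rfl (g := fun y => (((Subgroup.centralizer ({t} : Set G)).index : ℂ) *
      ((Subgroup.centralizer ({t} : Set G)).index : ℂ) *
      (conj ((χ : G → ℂ) t) * conj ((χ : G → ℂ) t) / (χ : G → ℂ) 1)) *
      (w y * (χ : G → ℂ) (g * y))) (fun y _ => by ring), ← Finset.mul_sum, hQ χ]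
    split_ifs <;> ring
  have e1 := hside (fun y => conj (stableExt t ψ y)) (InLin M t ψ)
    (fun χ => (hd.sum_section hD hM hg hg1 χ).2)
  have e2 := hside (fun _ => 1) (fun χ => χ ∈ principalBlock M G) (fun χ => by
    simp only [one_mul]
    exact sum_regCentral hM hg (dihedral_centralizer_complement hD hg hg1) χ)
  rw [Finset.sum_congr rfl hweight] at e1
  simp only [one_mul] at e2
  rw [e2] at e1
  rw [finsum_mem_eq_sum_ite]
  refine (mul_left_cancel₀ ?_ e1).symm
  have : ((Subgroup.centralizer ({t} : Set G)).index : ℂ) ≠ 0 :=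
    Nat.cast_ne_zero.2 Subgroup.index_ne_zero_of_finite
  exact mul_ne_zero (mul_ne_zero this this) (Nat.cast_ne_zero.2
    (Finset.card_ne_zero_of_mem (mem_regCentral.2 (show g * 1 = 1 * g ∧ Odd (orderOf (1 : G)) by simp))))

end Cfsg.Agent.H15.GW
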