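import Cfsg.Agent.H82.GW.Layer
import Cfsg.Agent.H15.GW.LinearBlock
import Cfsg.Agent.H99.GW.KleinLinear

/-!
# `LinearCharStep`

A stable nontrivial linear character of `O(C(t))` makes `O(C(t))` abelian: for `|S| ≥ 8` it forces
`|S| = 8` and a character of degree `6` with value `± 2 ψ` on the section of `t`, whose restriction
to `O(C(t))` has only linear constituents.
-/

open scoped ComplexConjugate

set_option autoImplicit false
set_option linter.style.haveILetI false

namespace Cfsg.Agent.H15.GW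

open BlockBasic CharBasic Cores Cfsg.Agent.GW

universe u

variable {G : Type u} [Group G] [Finite G]

/-- `O(C(t))` consists of the elements of odd order centralising `t`. -/
theorem mem_coreAt {S : Sylow 2 G} {l : ℕ} {c s : G} (hD : H39.DGen (S : Subgroup G) l c s)
    (y : G) : y ∈ coreAt (c ^ l) ↔ y * c ^ l = c ^ l * y ∧ Odd (orderOf y) := by
  classical
  haveI : Fact (Nat.Prime 2) := ⟨Nat.prime_two⟩
  cases nonempty_fintype G
  set C := Subgroup.centralizer ({c ^ l} : Set G) with hC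
  have hc := dihedral_centralizer_complement hD ⟨1, by rw [hD.z_order, pow_one]⟩
    (H39.ne_one_of_orderOf_eq_two hD.z_order)
  obtain ⟨T⟩ : Nonempty (Sylow 2 C) := inferInstance
  have hcomp := exists_normal_isComplement'_sylow hc T
  have hidx : (pPrimeCore 2 C).index = 2 ^ (Nat.card C).factorization 2 := by
    rw [hcomp.symm.index_eq_card]; exact T.card_eq_multiplicity
  have hodd : ¬ 2 ∣ Nat.card (pPrimeCore 2 C) := not_dvd_card_pPrimeCore
  rw [coreAt]
  constructor
  · rintro ⟨z, hz, rfl⟩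
    refine ⟨Subgroup.mem_centralizer_singleton_iff.1 z.2, Nat.not_even_iff_odd.1 fun h2 =>
      hodd ((even_iff_two_dvd.1 h2).trans ?_)⟩
    rw [Subgroup.coe_subtype, Subgroup.orderOf_coe]
    exact Subgroup.orderOf_dvd_natCard _ hz
  · rintro ⟨hy, ho⟩
    refine ⟨⟨y, Subgroup.mem_centralizer_singleton_iff.2 hy⟩, mem_of_regular ⟨_, hidx⟩ ?_, rfl⟩
    rw [Subgroup.orderOf_mk]
    exact fun h2 => Nat.not_even_iff_odd.2 ho (even_iff_two_dvd.2 h2)

/-- A character of degree six of a simple group whose section at the involution `z` is twice a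
linear character makes an odd subgroup centralised by `z` abelian. -/
theorem abelian_of_degree_six [IsSimpleGroup G] {K : Subgroup G} (hK : Odd (Nat.card K)) {z : G}
    (hz : z * z = 1) (hzK : ∀ y ∈ K, z * y = y * z) {χ : IrrCharacter G}
    (h6 : charDegree (χ : G → ℂ) = 6) {b : ℤ} (hb : b = 1 ∨ b = -1) (l : K →* ℂˣ)
    (hv : ∀ y : K, (χ : G → ℂ) (z * (y : G)) = 2 * b * (l y : ℂ)) :
    ∀ x ∈ K, ∀ y ∈ K, Commute x y := by
  classical
  cases nonempty_fintype G
  haveI : Fintype K := Fintype.ofFinite K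
  have hχ := IsIrr.isCharacter χ.2
  have hne : (χ : G → ℂ) ≠ fun _ => 1 := fun e => by
    have h1 := apply_one_eq_charDegree χ
    rw [h6, congrFun e 1] at h1
    norm_num at h1
  set ξ₀ : IrrCharacter K := ⟨_, CharInduce.isIrrCharacter_hom l⟩ with hξ₀
  have hθ : (fun y : K => (χ : G → ℂ) (z * (y : G))) = (2 * b : ℂ) • (ξ₀ : K → ℂ) := by
    funext y
    rw [hv y]
    rfl
  have hres := CharInduce.IsChar.res hχ K
  choose p q hpq hpq' using fun ξ : IrrCharacter K =>
    H99.GW.exists_split hz hzK hχ (IsIrr.isCharacter ξ.2)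
  choose n hn hn1 hnd using fun ξ : IrrCharacter K => IsIrr.degree_dvd ξ.2
  have hdiff : ∀ ξ, (p ξ : ℤ) - q ξ = if ξ₀ = ξ then 2 * b else 0 := by
    intro ξ
    have h := hpq' ξ
    rw [hθ, classInner_smul_left, classInner_irrCharacter] at h
    apply Int.cast_injective (α := ℂ)
    push_cast
    rw [← h]
    split_ifs <;> simp
  have hsum : (∑ ξ, (p ξ + q ξ) * n ξ : ℕ) = 6 := by
    have h := congrFun (classFunction_expansion (IsChar.isClassFunction hres)) 1
    simp only [Finset.sum_apply, Pi.smul_apply, smul_eq_mul, OneMemClass.coe_one,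
      apply_one_eq_charDegree, h6] at h
    simp only [hpq, ← apply_one_eq_charDegree, hn1] at h
    exact_mod_cast h.symm
  have hn0 : n ξ₀ = 1 := by
    have h := hn1 ξ₀
    simp only [hξ₀, map_one, Units.val_one] at h
    exact_mod_cast h.symm
  have hlin : ∀ ξ, p ξ + q ξ ≠ 0 → n ξ = 1 := by
    intro ξ hξ
    by_cases heq : ξ₀ = ξ
    · rw [← heq, hn0]
    have h0 := hdiff ξ₀
    rw [if_pos rfl] at h0
    have h1 := hdiff ξ
    rw [if_neg heq] at h1
    have hle : (p ξ₀ + q ξ₀) * n ξ₀ + (p ξ + q ξ) * n ξ ≤ 6 := by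
      rw [← hsum, ← Finset.sum_pair (f := fun ξ => (p ξ + q ξ) * n ξ) heq]
      exact Finset.sum_le_sum_of_subset (Finset.subset_univ _)
    rw [hn0, mul_one] at hle
    have h2 : 2 * n ξ ≤ (p ξ + q ξ) * n ξ := Nat.mul_le_mul_right _ (by omega)
    obtain ⟨r, hr⟩ := hK.of_dvd_nat (hnd ξ).1
    omega
  intro x hx y hy
  have hcomm : (χ : G → ℂ) (x * y * x⁻¹ * y⁻¹) = (χ : G → ℂ) 1 := by
    have he := classFunction_expansion (IsChar.isClassFunction hres)
    have h1 := congrFun he (⟨x, hx⟩ * ⟨y, hy⟩ * ⟨x, hx⟩⁻¹ * ⟨y, hy⟩⁻¹)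
    have h2 := congrFun he 1
    simp only [Subgroup.coe_mul, Subgroup.coe_inv, OneMemClass.coe_one] at h1 h2
    rw [h1, h2]
    simp only [Finset.sum_apply, Pi.smul_apply, smul_eq_mul]
    refine Finset.sum_congr rfl fun ξ _ => ?_
    by_cases h : p ξ + q ξ = 0
    · rw [hpq ξ, show p ξ = 0 by omega, show q ξ = 0 by omega]; simp
    congr 1
    have hd : (ξ : K → ℂ) 1 = 1 := by rw [hn1, hlin ξ h, Nat.cast_one]
    obtain ⟨f, hf⟩ := CharInduce.IsChar.exists_hom_of_degree_one (IsIrr.isCharacter ξ.2) hd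
    rw [hf, hf]
    congr 1
    simp only [map_mul, map_inv, map_one]
    rw [mul_comm (f _) (f _), mul_inv_cancel_right, mul_inv_cancel]
  have hone := H81.SimpleDegree.faithful hne _ hcomm
  rw [mul_inv_eq_one, mul_inv_eq_iff_eq_mul] at hone
  exact hone

/-- `LinearCharStep` for `|S| ≥ 8`; it also gives `|S| = 8`. -/
theorem linearChar_two_le {S : Sylow 2 G} {l : ℕ} {c s : G} (hl : 2 ≤ l) (hcfg : Cfg S l c s)
    {ψ : G → ℂ} (hd : StableDatum (c ^ l) ψ)
    (hmul : ∀ x ∈ coreAt (c ^ l), ∀ y ∈ coreAt (c ^ l), ψ (x * y) = ψ x * ψ y)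
    (h1 : ψ 1 = 1) (hnt : ∃ x ∈ coreAt (c ^ l), ψ x ≠ 1) :
    l = 2 ∧ ∀ x ∈ coreAt (c ^ l), ∀ y ∈ coreAt (c ^ l), Commute x y := by
  classical
  cases nonempty_fintype G
  haveI := hcfg.simple
  have hmem := mem_coreAt hcfg.gen
  have hld : LinDatum (c ^ l) ψ :=
    { toStableDatum := hd
      map_mul := fun a b ha hao hb hbo =>
        hmul a ((hmem a).2 ⟨ha, hao⟩) b ((hmem b).2 ⟨hb, hbo⟩)
      map_one := h1 }
  have hne : ∀ χ : IrrCharacter G, charDegree (χ : G → ℂ) = 1 → χ = trivialIrr := by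
    intro χ hχ
    by_contra hcon
    have h2 : 2 ≤ charDegree (χ : G → ℂ) := H81.SimpleDegree.two_le_charDegree (by
      by_contra h
      push Not at h
      exact hcfg.nonab ⟨⟨h⟩⟩) fun e => hcon (Subtype.ext e)
    omega
  obtain ⟨x, hx, hx1⟩ := hnt
  obtain ⟨hl2, χ, b, hb, h6, hv⟩ := hld.degree_six hcfg.gen hl
    ⟨x, ((hmem x).1 hx).1, ((hmem x).1 hx).2, hx1⟩ hne
  refine ⟨hl2, ?_⟩
  have hodd := H99.GW.odd_card_coreAt (c ^ l)
  let f : coreAt (c ^ l) →* ℂ :=
    { toFun := fun y => ψ y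
      map_one' := h1
      map_mul' := fun y z => hmul _ y.2 _ z.2 }
  refine abelian_of_degree_six hodd (H39.mul_self_of_orderOf_eq_two hd.ord)
    (fun y hy => ((hmem y).1 hy).1.symm) h6 hb f.toHomUnits fun y => ?_
  rw [hv _ ((hmem _).1 y.2).1 ((hmem _).1 y.2).2]
  rfl

/-- A stable nontrivial linear character of `O(C(t))` makes `O(C(t))` abelian. -/
theorem linearCharStep : LinearCharStep (G := G) := by
  intro S l c s hcfg ψ hd hmul h1 hnt
  rcases (show l = 0 ∨ l = 1 ∨ 2 ≤ l by omega) with rfl | rfl | hl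
  · exact absurd hcfg.gen.oc (orderOf_pos c).ne'
  · exact H99.GW.linearCharStep_one S c s hcfg ψ hd hmul h1 hnt
  · exact (linearChar_two_le hl hcfg hd hmul h1 hnt).2

end Cfsg.Agent.H15.GW
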